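import Cfsg.Agent.Lib.PSLThreeFourMult.Field
import Cfsg.Agent.Lib.PSLThreeFourMult.Data

/-!
Kernel checks on the matrix data.
-/

set_option autoImplicit false

namespace Cfsg.Agent.Lib.PSLThreeFourMult

open Data

/-- A matrix of degree three from its code. -/
def mat3 (c : ℕ) : Matrix (Fin 3) (Fin 3) K4 :=
  Matrix.of fun i j => K4.el (c >>> (2 * (3 * i.val + j.val)))

/-- A matrix of degree four from its code. -/
def mat4 (c : ℕ) : Matrix (Fin 4) (Fin 4) K9 :=
  Matrix.of fun i j => K9.el (c >>> (4 * (4 * i.val + j.val)) % 16)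

/-- The product in degree three, entry by entry. -/
def mul3 (A B : Matrix (Fin 3) (Fin 3) K4) (i j : Fin 3) : K4 :=
  A i 0 * B 0 j + A i 1 * B 1 j + A i 2 * B 2 j

/-- The product in degree four, entry by entry. -/
def mul4 (A B : Matrix (Fin 4) (Fin 4) K9) (i j : Fin 4) : K9 :=
  A i 0 * B 0 j + A i 1 * B 1 j + A i 2 * B 2 j + A i 3 * B 3 j

theorem mul3_eq (A B : Matrix (Fin 3) (Fin 3) K4) (i j : Fin 3) : (A * B) i j = mul3 A B i j := by
  simp [Matrix.mul_apply, Fin.sum_univ_three, mul3]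

theorem mul4_eq (A B : Matrix (Fin 4) (Fin 4) K9) (i j : Fin 4) : (A * B) i j = mul4 A B i j := by
  simp [Matrix.mul_apply, Fin.sum_univ_four, mul4]

/-- The involutions. -/
def eMat (i : ℕ) : Matrix (Fin 3) (Fin 3) K4 := mat3 (eTab.getD i 0)

/-- The lifts. -/
def jMat (i : ℕ) : Matrix (Fin 4) (Fin 4) K9 := mat4 (jTab.getD i 0)

/-- The acting matrices of degree three. -/
def gMat (r : ℕ) : Matrix (Fin 3) (Fin 3) K4 := mat3 (gTab.getD r 0)

/-- The acting matrices of degree four. -/
def mMat (r : ℕ) : Matrix (Fin 4) (Fin 4) K9 := mat4 (mTab.getD r 0)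

/-- The permutation of a copy. -/
def pOf (r i : ℕ) : ℕ := permTab.getD (315 * r + i) 0

/-- The scalar of a copy. -/
def lOf (r i : ℕ) : K9 := K9.el (lamTab.getD (315 * r + i) 0)

/-- The action check for one copy. -/
def Acts (r : ℕ) : Prop :=
  ∀ i : Fin 315, pOf r i.val < 315 ∧
    (∀ a b : Fin 3, mul3 (gMat r) (eMat i.val) a b = mul3 (eMat (pOf r i.val)) (gMat r) a b) ∧
    ∀ a b : Fin 4, mul4 (mMat r) (jMat i.val) a b = lOf r i.val * mul4 (jMat (pOf r i.val)) (mMat r) a b

theorem acts_zero : Acts 0 := by unfold Acts; decide +kernel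

theorem acts_one : Acts 1 := by unfold Acts; decide +kernel

theorem acts_two : Acts 2 := by unfold Acts; decide +kernel

theorem acts_three : Acts 3 := by unfold Acts; decide +kernel

theorem squares : ∀ i : Fin 315, K9.el (sTab.getD i.val 0) ≠ 0 ∧
    ∀ a b : Fin 4, mul4 (jMat i.val) (jMat i.val) a b = if a = b then K9.el (sTab.getD i.val 0) else 0 := by
  decide +kernel

end Cfsg.Agent.Lib.PSLThreeFourMult
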