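import Cfsg.Agent.Lib.PSLThreeFourMult.Two
import Cfsg.Agent.Lib.Compute.MultBound
import Cfsg.Agent.Lib.Compute.PlaneFour
import Cfsg.Agent.Lib.Classical.LinearCard

/-!
The Schur multiplier of the plane group over four elements is a quotient of `3 × 4 × 4`.
-/

set_option autoImplicit false
set_option linter.unusedSectionVars false

namespace Cfsg.Agent.Lib.PSLThreeFourMult

open Cfsg Cfsg.Agent.Lib.PlaneCover Cfsg.Agent.Lib.PGroups.UniFour Cfsg.Agent.Lib.Compute
open scoped commutatorElement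

universe u v

/-- Three central elements of orders dividing three, four and four define a homomorphism. -/
theorem exists_hom {G : Type u} [Group G] (z₁ z₂ z₃ : G) (h₁ : z₁ ^ 3 = 1) (h₂ : z₂ ^ 4 = 1)
    (h₃ : z₃ ^ 4 = 1) (c₁ : z₁ ∈ Subgroup.center G) (c₂ : z₂ ∈ Subgroup.center G) :
    ∃ π : Multiplicative (ZMod 3 × ZMod 4 × ZMod 4) →* G,
      ∀ a b c, π (Multiplicative.ofAdd (a, b, c)) = z₁ ^ a.val * z₂ ^ b.val * z₃ ^ c.val := by
  refine ⟨{ toFun := fun x => z₁ ^ (Multiplicative.toAdd x).1.val * z₂ ^ (Multiplicative.toAdd x).2.1.val *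
              z₃ ^ (Multiplicative.toAdd x).2.2.val
            map_one' := by simp
            map_mul' := fun x y => ?_ }, fun a b c => rfl⟩
  obtain ⟨a, b, c⟩ := x
  obtain ⟨a', b', c'⟩ := y
  show z₁ ^ (a + a').val * z₂ ^ (b + b').val * z₃ ^ (c + c').val =
    z₁ ^ a.val * z₂ ^ b.val * z₃ ^ c.val * (z₁ ^ a'.val * z₂ ^ b'.val * z₃ ^ c'.val)
  rw [ZMod.val_add, ZMod.val_add, ZMod.val_add, ← pow_eq_pow_mod _ h₁, ← pow_eq_pow_mod _ h₂,
    ← pow_eq_pow_mod _ h₃, pow_add, pow_add, pow_add]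
  have e1 := Subgroup.mem_center_iff.1 (pow_mem c₁ a'.val)
  have e2 := Subgroup.mem_center_iff.1 (pow_mem c₂ b'.val)
  calc z₁ ^ a.val * z₁ ^ a'.val * (z₂ ^ b.val * z₂ ^ b'.val) * (z₃ ^ c.val * z₃ ^ c'.val)
      = z₁ ^ a.val * (z₁ ^ a'.val * z₂ ^ b.val) * (z₂ ^ b'.val * z₃ ^ c.val) * z₃ ^ c'.val := by group
    _ = z₁ ^ a.val * (z₂ ^ b.val * z₁ ^ a'.val) * (z₃ ^ c.val * z₂ ^ b'.val) * z₃ ^ c'.val := by rw [e1, e2]
    _ = z₁ ^ a.val * z₂ ^ b.val * (z₁ ^ a'.val * z₃ ^ c.val) * z₂ ^ b'.val * z₃ ^ c'.val := by group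
    _ = z₁ ^ a.val * z₂ ^ b.val * (z₃ ^ c.val * z₁ ^ a'.val) * z₂ ^ b'.val * z₃ ^ c'.val := by rw [e1]
    _ = _ := by group

theorem card_L3 {F : Type v} [Field F] [Fintype F] (hF : Fintype.card F = 4) :
    Nat.card (L3 F) = 20160 := by
  have h := Cfsg.Agent.Lib.Classical.card_PSL_mul (F := F) (n := 3) (by norm_num)
  rw [hF] at h
  generalize Nat.card (Matrix.ProjectiveSpecialLinearGroup (Fin 3) F) = X at h ⊢
  norm_num [Fin.prod_univ_three] at h
  omega

theorem kernel_quotient {F : Type v} [Field F] [Fintype F] (hF : Fintype.card F = 4) {Δ : Type u}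
    [Group Δ] [Finite Δ] (σ : Δ →* L3 F) (hσ : Cfsg.IsStemExtension σ) :
    ∃ π : Multiplicative (ZMod 3 × ZMod 4 × ZMod 4) →* σ.ker, Function.Surjective π := by
  classical
  obtain ⟨hs, hc, hcm⟩ := hσ
  obtain ⟨w, h2, hw⟩ := exists_omega_four hF
  haveI : CharP F 2 := CharTwo.of_one_ne_zero_of_two_eq_zero one_ne_zero h2
  have hall : ∀ x : F, x = 0 ∨ x = 1 ∨ x = w ∨ x = w + 1 := by
    intro x
    have h4 : x ^ 4 = x := by have := FiniteField.pow_card x; rwa [hF] at this
    have e : x * (x - 1) * ((x - w) * (x - (w + 1))) = 0 := by grind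
    rcases mul_eq_zero.1 e with e | e <;> rcases mul_eq_zero.1 e with e | e
    · exact Or.inl e
    · exact Or.inr (Or.inl (sub_eq_zero.1 e))
    · exact Or.inr (Or.inr (Or.inl (sub_eq_zero.1 e)))
    · exact Or.inr (Or.inr (Or.inr (sub_eq_zero.1 e)))
  have hL := card_L3 hF
  haveI : Finite (L3 F) := Nat.finite_of_card_ne_zero (by rw [hL]; norm_num)
  obtain ⟨p, q, hpk, hqk, hp4, hq4, htwo⟩ := two_part hw hall σ hs hc
  have hU : (U0 F).index = 315 := by
    have h := (U0 F).index_mul_card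
    rw [card_U0, hL, Nat.card_eq_fintype_card, hF] at h
    omega
  -- the element of order three
  haveI : Fact (Nat.Prime 3) := ⟨Nat.prime_three⟩
  obtain ⟨P⟩ : Nonempty (Sylow 3 (L3 F)) := inferInstance
  have hP : Nat.card (P : Subgroup (L3 F)) = 9 := by
    rw [P.card_eq_multiplicity, hL, show (20160 : ℕ) = 3 ^ 2 * 2240 by norm_num,
      Nat.factorization_mul (by norm_num) (by norm_num), Finsupp.add_apply,
      Nat.prime_three.factorization_pow, Nat.factorization_eq_zero_of_not_dvd (show ¬ 3 ∣ 2240 by norm_num)]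
    simp
  haveI hPc : IsMulCommutative (P : Subgroup (L3 F)) := IsPGroup.isMulCommutative_of_card_eq_prime_sq (p := 3) (by rw [hP]; norm_num)
  have hPi : Nat.Coprime 3 (P : Subgroup (L3 F)).index := Nat.prime_three.coprime_iff_not_dvd.2 P.not_dvd_index
  obtain ⟨g, hg⟩ := exists_prime_orderOf_dvd_card' (G := (P : Subgroup (L3 F))) 3 (by rw [hP]; norm_num)
  obtain ⟨h, hh⟩ : ∃ h : (P : Subgroup (L3 F)), h ∉ Subgroup.zpowers g := by
    by_contra hne
    push Not at hne
    have : Subgroup.zpowers g = ⊤ := (Subgroup.eq_top_iff' _).2 hne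
    have h9 : Nat.card (Subgroup.zpowers g) = 9 := by rw [this, Subgroup.card_top, hP]
    rw [Nat.card_zpowers, hg] at h9
    omega
  obtain ⟨X, hX⟩ := hs (g : L3 F)
  obtain ⟨Y, hY⟩ := hs (h : L3 F)
  have hSP : (P : Subgroup (L3 F)) = Subgroup.closure {σ X, σ Y} := by
    have htop : Subgroup.closure ({g, h} : Set (P : Subgroup (L3 F))) = ⊤ := by
      refine Subgroup.eq_top_of_card_eq _ ?_
      have hd : Nat.card (Subgroup.closure ({g, h} : Set (P : Subgroup (L3 F)))) ∣ 3 ^ 2 := by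
        have := Subgroup.card_subgroup_dvd_card (Subgroup.closure ({g, h} : Set (P : Subgroup (L3 F))))
        rwa [hP] at this
      have hle : Subgroup.zpowers g < Subgroup.closure ({g, h} : Set (P : Subgroup (L3 F))) :=
        lt_of_le_not_ge (Subgroup.zpowers_le.2 (Subgroup.subset_closure (Or.inl rfl)))
          fun hle => hh (hle (Subgroup.subset_closure (Or.inr rfl)))
      have h3 : 3 ∣ Nat.card (Subgroup.closure ({g, h} : Set (P : Subgroup (L3 F)))) := by
        have := Subgroup.card_dvd_of_le hle.le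
        rwa [Nat.card_zpowers, hg] at this
      obtain ⟨i, hi, he⟩ := (Nat.dvd_prime_pow Nat.prime_three).1 hd
      interval_cases i
      · rw [he] at h3; norm_num at h3
      · exfalso
        refine hle.ne (Subgroup.eq_of_le_of_card_ge hle.le ?_)
        rw [he, Nat.card_zpowers, hg, pow_one]
      · rw [he, hP]; norm_num
    have h1 := congrArg (Subgroup.map (P : Subgroup (L3 F)).subtype) htop
    rw [MonoidHom.map_closure, ← MonoidHom.range_eq_map, Subgroup.range_subtype, Set.image_pair] at h1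
    rw [← h1, hX, hY]; rfl
  have hXY : ⁅X, Y⁆ ∈ σ.ker := by
    rw [MonoidHom.mem_ker, map_commutatorElement, hX, hY, commutatorElement_eq_one_iff_mul_comm]
    exact congrArg Subtype.val (hPc.is_comm.comm g h)
  set c := ⁅X, Y⁆ with hcdef
  have hc3 : c ^ 3 = 1 := by
    have hcc := Subgroup.mem_center_iff.1 (hc hXY)
    have step : ∀ n : ℕ, ⁅X ^ n, Y⁆ = c ^ n := by
      intro n
      induction n with
      | zero => simp
      | succ n ih =>
        rw [pow_succ', pow_succ', ← ih]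
        calc ⁅X * X ^ n, Y⁆ = X * ⁅X ^ n, Y⁆ * X⁻¹ * ⁅X, Y⁆ := by simp only [commutatorElement_def]; group
          _ = ⁅X ^ n, Y⁆ * c := by
              rw [ih, Subgroup.mem_center_iff.1 (pow_mem (hc hXY) n) X, mul_inv_cancel_right]
          _ = _ := hcc _
    rw [← step 3]
    refine commutatorElement_eq_one_iff_mul_comm.2 (Subgroup.mem_center_iff.1 (hc ?_) Y).symm
    rw [MonoidHom.mem_ker, map_pow, hX, ← Subgroup.coe_pow]
    have hgp := pow_orderOf_eq_one g
    rw [hg] at hgp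
    rw [hgp, Subgroup.coe_one]
  have hthree : ∀ z ∈ σ.ker, ∀ k : ℕ, z ^ 3 ^ k = 1 → z ∈ Subgroup.zpowers c := by
    intro z hz k hzk
    have hn : ∀ x : Δ, x ∈ Subgroup.normalizer ((Subgroup.zpowers c : Subgroup Δ) : Set Δ) := fun x => by
      refine Subgroup.mem_normalizer_iff.mpr fun y => ?_
      have hcom : ∀ y ∈ Subgroup.zpowers c, x * y * x⁻¹ = y := fun y hy => by
        rw [Subgroup.mem_center_iff.1 (Subgroup.zpowers_le.2 (hc hXY) hy) x, mul_inv_cancel_right]
      constructor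
      · intro hy; rw [hcom y hy]; exact hy
      · intro hy
        have : x * y * x⁻¹ = y := by
          have h' := Subgroup.mem_center_iff.1 (Subgroup.zpowers_le.2 (hc hXY) hy) x
          calc x * y * x⁻¹ = x⁻¹ * (x * (x * y * x⁻¹)) := by group
            _ = x⁻¹ * (x * y * x⁻¹ * x) := by rw [h']
            _ = y := by group
        rwa [this] at hy
    exact commutator_comap_le σ hc hSP _ (hn X) (hn Y) (Subgroup.mem_zpowers c)
      (by rw [← commutatorElement_inv]; exact inv_mem (Subgroup.mem_zpowers c))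
      (mem_commutator_comap σ hs hc hz (hcm hz) hzk (Nat.Coprime.pow_left k hPi))
  have hbig : ∀ r : ℕ, r.Prime → r ≠ 2 → r ≠ 3 → ∀ z ∈ σ.ker, ∀ k : ℕ, z ^ r ^ k = 1 → z = 1 := by
    intro r hr hr2 hr3 z hz k hzk
    haveI := Fact.mk hr
    by_cases hd : r ∣ Nat.card (L3 F)
    · obtain ⟨x, hx⟩ := exists_prime_orderOf_dvd_card' r hd
      refine eq_one_of_cyclic σ hs hc hz (hcm hz) hzk (x := x) (Nat.Coprime.pow_left k ?_)
      have h := (Subgroup.zpowers x).index_mul_card
      rw [Nat.card_zpowers, hx, hL] at h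
      refine hr.coprime_iff_not_dvd.2 fun hdi => ?_
      obtain ⟨e, he⟩ := hdi
      rw [he] at h
      have hrr : r * r ∣ 20160 := ⟨e, by rw [← h]; ring⟩
      have hle : r ≤ 20160 := Nat.le_of_dvd (by norm_num) ((dvd_mul_right r r).trans hrr)
      have h57 : r = 5 ∨ r = 7 := by
        have hd' : r ∣ 2 ^ 6 * (3 ^ 2 * (5 * 7)) := by rw [hL] at hd; exact hd
        rcases (Nat.Prime.dvd_mul hr).1 hd' with h' | h'
        · exact absurd ((Nat.prime_dvd_prime_iff_eq hr Nat.prime_two).1 (hr.dvd_of_dvd_pow h')) hr2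
        rcases (Nat.Prime.dvd_mul hr).1 h' with h' | h'
        · exact absurd ((Nat.prime_dvd_prime_iff_eq hr Nat.prime_three).1 (hr.dvd_of_dvd_pow h')) hr3
        rcases (Nat.Prime.dvd_mul hr).1 h' with h' | h'
        · exact Or.inl ((Nat.prime_dvd_prime_iff_eq hr (by norm_num)).1 h')
        · exact Or.inr ((Nat.prime_dvd_prime_iff_eq hr (by norm_num)).1 h')
      rcases h57 with rfl | rfl <;> norm_num at hrr
    · refine eq_one_of_cyclic σ hs hc hz (hcm hz) hzk (x := 1) (Nat.Coprime.pow_left k ?_)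
      rw [Subgroup.zpowers_one_eq_bot, Subgroup.index_bot]
      exact hr.coprime_iff_not_dvd.2 hd
  set K : Subgroup Δ := Subgroup.closure {c, p, q} with hK
  have hcK : c ∈ K := Subgroup.subset_closure (by simp)
  have hpK : p ∈ K := Subgroup.subset_closure (by simp)
  have hqK : q ∈ K := Subgroup.subset_closure (by simp)
  have hall' : ∀ n : ℕ, 0 < n → ∀ z ∈ σ.ker, z ^ n = 1 → z ∈ K := by
    intro n
    induction n using Nat.recOnPosPrimePosCoprime with
    | prime_pow r k hr hk =>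
      intro _ z hz hzn
      by_cases h2 : r = 2
      · subst h2
        refine (Subgroup.closure_le _).2 ?_ (htwo z hz (mem_commutator_comap σ hs hc hz (hcm hz) hzn
          (Nat.Coprime.pow_left k (by rw [hU]; norm_num))))
        rintro x (rfl | rfl)
        · exact hpK
        · exact hqK
      by_cases h3 : r = 3
      · subst h3
        exact Subgroup.zpowers_le.2 hcK (hthree z hz k hzn)
      rw [hbig r hr h2 h3 z hz k hzn]
      exact one_mem K
    | zero => intro h; omega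
    | one => intro _ z _ hz; rw [pow_one] at hz; rw [hz]; exact one_mem K
    | coprime a b ha hb hab iha ihb =>
      intro _ z hz hzn
      obtain ⟨i, j, hij⟩ : IsCoprime ((a : ℕ) : ℤ) ((b : ℕ) : ℤ) :=
        Int.isCoprime_iff_nat_coprime.mpr (by simpa using hab)
      rw [← zpow_one z, ← hij, zpow_add, zpow_mul', zpow_mul', zpow_natCast, zpow_natCast]
      refine mul_mem (Subgroup.zpow_mem _ (ihb (by omega) _ (pow_mem hz a) ?_) i)
        (Subgroup.zpow_mem _ (iha (by omega) _ (pow_mem hz b) ?_) j)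
      · rw [← pow_mul, hzn]
      · rw [← pow_mul, mul_comm, hzn]
  obtain ⟨π₀, hπ₀⟩ := exists_hom (⟨c, hXY⟩ : σ.ker) ⟨p, hpk⟩ ⟨q, hqk⟩
    (Subtype.ext hc3) (Subtype.ext hp4) (Subtype.ext hq4)
    (Subgroup.mem_center_iff.2 fun g => Subtype.ext (Subgroup.mem_center_iff.1 (hc hXY) g))
    (Subgroup.mem_center_iff.2 fun g => Subtype.ext (Subgroup.mem_center_iff.1 (hc hpk) g))
  refine ⟨π₀, fun z => ?_⟩
  have hle : K ≤ π₀.range.map σ.ker.subtype := by
    refine (Subgroup.closure_le _).2 ?_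
    intro x hx
    rcases hx with hx | hx | hx <;> rw [hx]
    · exact ⟨⟨c, hXY⟩, ⟨Multiplicative.ofAdd (1, 0, 0), by rw [hπ₀]; simp [ZMod.val_one_eq_one_mod]⟩, rfl⟩
    · exact ⟨⟨p, hpk⟩, ⟨Multiplicative.ofAdd (0, 1, 0), by rw [hπ₀]; simp [ZMod.val_one_eq_one_mod]⟩, rfl⟩
    · exact ⟨⟨q, hqk⟩, ⟨Multiplicative.ofAdd (0, 0, 1), by rw [hπ₀]; simp [ZMod.val_one_eq_one_mod]⟩, rfl⟩
  obtain ⟨y, ⟨x, hx⟩, hyz⟩ := hle (hall' (orderOf (z : Δ)) (orderOf_pos _) z z.2 (pow_orderOf_eq_one _))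
  exact ⟨x, hx.trans (Subtype.ext hyz)⟩

end Cfsg.Agent.Lib.PSLThreeFourMult
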