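import Cfsg.Agent.Lib.PSLThreeFourMult.Tree
import Cfsg.Agent.Lib.PSLThreeFourMult.Upper
import Cfsg.Agent.Lib.Classical.LinearSimple

/-!
A stem extension of the plane group over four elements with kernel `3 × 4 × 4`.
-/

set_option autoImplicit false
set_option linter.unusedSectionVars false

namespace Cfsg.Agent.Lib.PSLThreeFourMult

open Data Matrix
open scoped commutatorElement

/-- The ambient group. -/
abbrev X := SpecialLinearGroup (Fin 3) K4 × SpecialLinearGroup (Fin 4) K9 × SpecialLinearGroup (Fin 4) K9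

theorem x_ext {x y : X} (h1 : x.1.1 = y.1.1) (h2 : x.2.1.1 = y.2.1.1) (h3 : x.2.2.1 = y.2.2.1) : x = y :=
  Prod.ext (Subtype.ext h1) (Prod.ext (Subtype.ext h2) (Subtype.ext h3))

/-- The two generators. -/
def gen (r : Fin 2) : X :=
  (⟨gMat r.val, by fin_cases r; exacts [det_g.1, det_g.2]⟩, ⟨mMat r.val, det_m ⟨r.val, by omega⟩⟩,
    ⟨mMat (r.val + 2), det_m ⟨r.val + 2, by omega⟩⟩)

/-- The covering group. -/
def cov : Subgroup X := Subgroup.closure (Set.range gen)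

/-- Compatibility of a pair of matrices with the table of involutions and lifts. -/
def Rel (g : Matrix (Fin 3) (Fin 3) K4) (M : Matrix (Fin 4) (Fin 4) K9) : Prop :=
  ∀ i : Fin 315, ∃ j : Fin 315, ∃ l : K9, g * eMat i.val = eMat j.val * g ∧ M * jMat i.val = l • (jMat j.val * M)

theorem rel_one : Rel 1 1 := fun i => ⟨i, 1, by simp, by simp⟩

theorem rel_mul {g g' : Matrix (Fin 3) (Fin 3) K4} {M M' : Matrix (Fin 4) (Fin 4) K9} (h : Rel g M)
    (h' : Rel g' M') : Rel (g * g') (M * M') := by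
  intro i
  obtain ⟨j, l, e1, e2⟩ := h' i
  obtain ⟨k, l', e3, e4⟩ := h j
  refine ⟨k, l * l', ?_, ?_⟩
  · rw [mul_assoc, e1, ← mul_assoc, e3, mul_assoc]
  · rw [mul_assoc, e2, Matrix.mul_smul, ← mul_assoc, e4, Matrix.smul_mul, smul_smul, mul_assoc]

theorem rel_of_acts {r : ℕ} (h : Acts r) : Rel (gMat r) (mMat r) := by
  intro i
  obtain ⟨hp, h3, h4⟩ := h i
  refine ⟨⟨pOf r i.val, hp⟩, lOf r i.val, ?_, ?_⟩
  · ext a b; rw [mul3_eq, mul3_eq]; exact h3 a b
  · ext a b; rw [Matrix.smul_apply, mul4_eq, mul4_eq, smul_eq_mul]; exact h4 a b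

theorem rel_gen (r : Fin 2) : Rel (gen r).1.1 (gen r).2.1.1 ∧ Rel (dMat * (gen r).1.1 * dInv) (gen r).2.2.1 := by
  fin_cases r
  · exact ⟨rel_of_acts acts_zero, show Rel (dMat * gMat 0 * dInv) (mMat 2) by rw [twist.1]; exact rel_of_acts acts_two⟩
  · exact ⟨rel_of_acts acts_one, show Rel (dMat * gMat 1 * dInv) (mMat 3) by rw [twist.2]; exact rel_of_acts acts_three⟩

theorem rel_cov {x : X} (hx : x ∈ cov) : Rel x.1.1 x.2.1.1 ∧ Rel (dMat * x.1.1 * dInv) x.2.2.1 := by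
  have hx' : x ∈ Submonoid.closure (Set.range gen) := by
    rw [← Subgroup.closure_toSubmonoid_of_finite]; exact hx
  induction hx' using Submonoid.closure_induction with
  | mem y hy => obtain ⟨r, rfl⟩ := hy; exact rel_gen r
  | one =>
    refine ⟨rel_one, ?_⟩
    show Rel (dMat * 1 * dInv) 1
    rw [mul_one, d_inv.2]; exact rel_one
  | mul y z _ _ hy hz =>
    have hy' := hy (Subgroup.closure_le _ |>.2 (Subgroup.subset_closure) (by
      rw [← Subgroup.closure_toSubmonoid_of_finite] at *; assumption))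
    have hz' := hz (Subgroup.closure_le _ |>.2 (Subgroup.subset_closure) (by
      rw [← Subgroup.closure_toSubmonoid_of_finite] at *; assumption))
    refine ⟨rel_mul hy'.1 hz'.1, ?_⟩
    have e : dMat * (y * z).1.1 * dInv = dMat * y.1.1 * dInv * (dMat * z.1.1 * dInv) := by
      show dMat * (y.1.1 * z.1.1) * dInv = _
      simp only [mul_assoc]
      rw [← mul_assoc dInv dMat, d_inv.1, one_mul]
    rw [e]; exact rel_mul hy'.2 hz'.2

/-- The code order makes the table injective. -/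
theorem eMat_injective {i j : Fin 315} (h : eMat i.val = eMat j.val) : i = j := by
  have heq : eTab.getD i.val 0 = eTab.getD j.val 0 := by rw [e_code i, e_code j, h]
  have hmono : StrictMono fun i : Fin 315 => eTab.getD i.val 0 :=
    Fin.strictMono_iff_lt_succ.2 fun k => (e_lt k.castSucc).2 (by have := k.isLt; simp only [Fin.val_castSucc]; omega)
  exact hmono.injective heq

theorem commutes_lifts {g : Matrix (Fin 3) (Fin 3) K4} {M : Matrix (Fin 4) (Fin 4) K9} (hr : Rel g M)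
    (hg : ∀ A, g * A = A * g) (hu : IsUnit g) (hM : IsUnit M) (a b : ℕ) (ha : a < 315) (hb : b < 315) :
    M * sep a b = sep a b * M := by
  have step : ∀ i : Fin 315, ∃ l : K9, l * l = 1 ∧ M * jMat i.val = l • (jMat i.val * M) := by
    intro i
    obtain ⟨j, l, e1, e2⟩ := hr i
    rw [hg] at e1
    obtain rfl : i = j := eMat_injective (hu.mul_right_cancel e1)
    refine ⟨l, ?_, e2⟩
    have hsq : jMat i.val * jMat i.val = K9.el (sTab.getD i.val 0) • (1 : Matrix (Fin 4) (Fin 4) K9) := by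
      ext p q
      rw [mul4_eq, (squares i).2, Matrix.smul_apply, Matrix.one_apply, smul_eq_mul]
      split_ifs <;> simp
    have e3 : M * (jMat i.val * jMat i.val) = (l * l) • (jMat i.val * jMat i.val * M) := by
      rw [← mul_assoc, e2, Matrix.smul_mul, mul_assoc, e2, Matrix.mul_smul, smul_smul, mul_assoc]
    rw [hsq, Matrix.mul_smul, mul_one, Matrix.smul_mul, one_mul, smul_smul] at e3
    have hne : M ≠ 0 := hM.ne_zero
    have e4 : (l * l * K9.el (sTab.getD i.val 0) - K9.el (sTab.getD i.val 0)) • M = 0 := by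
      rw [sub_smul, ← e3, sub_self]
    rcases smul_eq_zero.1 e4 with h | h
    · exact mul_right_cancel₀ (squares i).1 ((sub_eq_zero.1 h).trans (one_mul _).symm)
    · exact absurd h hne
  obtain ⟨la, hla, ea⟩ := step ⟨a, ha⟩
  obtain ⟨lb, hlb, eb⟩ := step ⟨b, hb⟩
  have eab : M * (jMat a * jMat b) = (la * lb) • (jMat a * jMat b * M) := by
    rw [← mul_assoc, ea, Matrix.smul_mul, mul_assoc, eb, Matrix.mul_smul, smul_smul, mul_assoc]
  rw [sep, ← mul_assoc, eab, Matrix.smul_mul, mul_assoc _ M, eab, Matrix.mul_smul, smul_smul,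
    show la * lb * (la * lb) = 1 by linear_combination (lb * lb) * hla + hlb, one_smul, ← mul_assoc]

theorem scalar_of_rel {g : Matrix (Fin 3) (Fin 3) K4} {M : SpecialLinearGroup (Fin 4) K9} (hr : Rel g M.1)
    (hg : ∀ A, g * A = A * g) (hu : IsUnit g) :
    ∃ m : K9, m * m * (m * m) = 1 ∧ M.1 = m • (1 : Matrix (Fin 4) (Fin 4) K9) := by
  have hM : IsUnit M.1 := (Matrix.isUnit_iff_isUnit_det _).2 (by rw [M.2]; exact isUnit_one)
  obtain ⟨hd, h01, h02, h03, l0, l1, l2, l3, l4, l5⟩ := sep_diag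
  have hK := commutes_lifts hr hg hu hM
  have hD : M.1 * Matrix.diagonal ![K9.el 4, K9.el 5, K9.el 7, K9.el 8] =
      Matrix.diagonal ![K9.el 4, K9.el 5, K9.el 7, K9.el 8] * M.1 := by
    rw [← hd, ← mul_assoc, hK _ _ l0 l1, mul_assoc, hK _ _ l2 l3, mul_assoc]
  have hinj : Function.Injective (![K9.el 4, K9.el 5, K9.el 7, K9.el 8] : Fin 4 → K9) := by decide +kernel
  have hoff : ∀ i j, i ≠ j → M.1 i j = 0 := by
    intro i j hij
    have e := congrFun (congrFun hD i) j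
    rw [Matrix.mul_diagonal, Matrix.diagonal_mul, mul_comm] at e
    by_contra hne
    exact hij (hinj (mul_right_cancel₀ hne e)).symm
  have hdiag : M.1 = Matrix.diagonal fun i => M.1 i i := by
    ext i j
    by_cases h : i = j
    · subst h; simp
    · rw [Matrix.diagonal_apply_ne _ h, hoff i j h]
  have hY := hK _ _ l4 l5
  rw [hdiag] at hY
  have hsame : ∀ j, sep (dg 4) (dg 5) 0 j ≠ 0 → M.1 j j = M.1 0 0 := by
    intro j hj
    have e := congrFun (congrFun hY 0) j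
    rw [Matrix.mul_diagonal, Matrix.diagonal_mul, mul_comm (M.1 0 0)] at e
    exact (mul_left_cancel₀ hj e).symm
  have hall : ∀ i, M.1 i i = M.1 0 0 := by
    intro i
    fin_cases i
    · rfl
    · exact hsame 1 h01
    · exact hsame 2 h02
    · exact hsame 3 h03
  refine ⟨M.1 0 0, ?_, ?_⟩
  · have hdet := M.2
    rw [hdiag, Matrix.det_diagonal, Fin.prod_univ_four, hall 1, hall 2, hall 3] at hdet
    rw [← mul_assoc]; exact hdet
  · ext i j
    by_cases h : i = j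
    · subst h; simp [hall i]
    · rw [hoff i j h]; simp [h]

theorem node_mem : ∀ k : ℕ, k < 355 → ∃ x ∈ cov, x.1.1 = nodeA k ∧ x.2.1.1 = nodeB k ∧ x.2.2.1 = nodeC k := by
  intro k
  induction k using Nat.strong_induction_on with
  | _ k ih =>
    intro hk
    rcases tree ⟨k, hk⟩ with h0 | ⟨hp, hg, hA, hB, hC⟩
    · obtain rfl : k = 0 := h0
      refine ⟨1, one_mem _, ?_, ?_, ?_⟩
      · ext a b; exact (Matrix.one_apply ..).trans (root_node.1 a b).symm
      · ext a b; exact (Matrix.one_apply ..).trans (root_node.2.1 a b).symm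
      · ext a b; exact (Matrix.one_apply ..).trans (root_node.2.2 a b).symm
    · obtain ⟨x, hx, e1, e2, e3⟩ := ih _ hp (lt_trans hp hk)
      refine ⟨x * gen ⟨_, hg⟩, mul_mem hx (Subgroup.subset_closure ⟨_, rfl⟩), ?_, ?_, ?_⟩
      · ext a b; show (x.1.1 * gMat _) a b = _; rw [e1, mul3_eq]; exact (hA a b).symm
      · ext a b; show (x.2.1.1 * mMat _) a b = _; rw [e2, mul4_eq]; exact (hB a b).symm
      · ext a b; show (x.2.2.1 * mMat _) a b = _; rw [e3, mul4_eq]; exact (hC a b).symm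

theorem val_commutator {n : Type} [Fintype n] [DecidableEq n] {R : Type} [CommRing R]
    (u v : SpecialLinearGroup n R) {c : Matrix n n R} (h : c * (v.1 * u.1) = u.1 * v.1) : (⁅u, v⁆).1 = c := by
  have hu : IsUnit (v.1 * u.1) := (Matrix.isUnit_iff_isUnit_det _).2 (by rw [Matrix.det_mul, u.2, v.2, one_mul]; exact isUnit_one)
  have e : ⁅u, v⁆ * (v * u) = u * v := by
    simp only [commutatorElement_def, mul_assoc, inv_mul_cancel_left, inv_mul_cancel, mul_one]
  refine hu.mul_right_cancel (Eq.trans ?_ h.symm)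
  exact congrArg Subtype.val e

theorem comm_wit_mem {u v ca cb cc : ℕ} (h : CommWit u v ca cb cc) :
    ∃ c : ↥cov, c ∈ commutator ↥cov ∧ c.1.1.1 = mat3 ca ∧ c.1.2.1.1 = mat4 cb ∧ c.1.2.2.1 = mat4 cc := by
  obtain ⟨hu, hv, h1, h2, h3⟩ := h
  obtain ⟨x, hx, a1, a2, a3⟩ := node_mem u hu
  obtain ⟨y, hy, b1, b2, b3⟩ := node_mem v hv
  refine ⟨⁅⟨x, hx⟩, ⟨y, hy⟩⁆, Subgroup.commutator_mem_commutator (Subgroup.mem_top _) (Subgroup.mem_top _),
    ?_, ?_, ?_⟩
  · exact val_commutator x.1 y.1 (by rw [a1, b1]; exact h1)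
  · exact val_commutator x.2.1 y.2.1 (by rw [a2, b2]; exact h2)
  · exact val_commutator x.2.2 y.2.2 (by rw [a3, b3]; exact h3)

/-- The kernel witnesses. -/
theorem exists_central (r : Fin 3) : ∃ z : ↥cov, z ∈ commutator ↥cov ∧
    z.1.1.1 = (![om, 1, 1] r) • (1 : Matrix (Fin 3) (Fin 3) K4) ∧
    z.1.2.1.1 = (![1, im, im] r) • (1 : Matrix (Fin 4) (Fin 4) K9) ∧
    z.1.2.2.1 = (![1, 1, im] r) • (1 : Matrix (Fin 4) (Fin 4) K9) := by
  obtain ⟨hw, hw'⟩ := comm_wit r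
  obtain ⟨c, hc, c1, c2, c3⟩ := comm_wit_mem hw
  obtain ⟨d, hd, d1, d2, d3⟩ := comm_wit_mem hw'
  obtain ⟨v1, v2, v3⟩ := wit_val r
  refine ⟨c * d, mul_mem hc hd, ?_, ?_, ?_⟩
  · show c.1.1.1 * d.1.1.1 = _; rw [c1, d1, v1]
  · show c.1.2.1.1 * d.1.2.1.1 = _; rw [c2, d2, v2]
  · show c.1.2.2.1 * d.1.2.2.1 = _; rw [c3, d3, v3]

/-- The projection. -/
def prj : ↥cov →* ProjectiveSpecialLinearGroup (Fin 3) K4 :=
  (QuotientGroup.mk' _).comp ((MonoidHom.fst _ _).comp cov.subtype)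

theorem prj_surjective : Function.Surjective prj := by
  refine (QuotientGroup.mk'_surjective _).comp ?_
  rw [← MonoidHom.range_eq_top, eq_top_iff,
    ← Cfsg.Agent.Lib.Classical.transvectionSubgroup_eq_top (F := K4) (ι := Fin 3)]
  refine (Subgroup.closure_le _).2 ?_
  rintro g ⟨i, j, hij, b, rfl⟩
  by_cases hb : b = 0
  · subst hb
    have : Matrix.SpecialLinearGroup.transvection hij (0 : K4) = 1 := Subtype.ext (by simp)
    rw [this]; exact one_mem _
  obtain ⟨t, ht, he⟩ := transvections i j b hij hb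
  obtain ⟨x, hx, e1, -, -⟩ := node_mem _ ht
  refine ⟨⟨x, hx⟩, Subtype.ext ?_⟩
  show x.1.1 = _
  rw [e1]
  ext p q
  refine (he p q).trans ?_
  simp only [Matrix.SpecialLinearGroup.transvection_coe, Matrix.transvection, Matrix.add_apply, Matrix.one_apply,
    Matrix.single_apply, eq_comm]

theorem ker_form {x : ↥cov} (hx : x ∈ prj.ker) :
    ∃ r : K4, ∃ l m : K9, r * (r * r) = 1 ∧ l * l * (l * l) = 1 ∧ m * m * (m * m) = 1 ∧
      x.1.1.1 = r • (1 : Matrix (Fin 3) (Fin 3) K4) ∧ x.1.2.1.1 = l • (1 : Matrix (Fin 4) (Fin 4) K9) ∧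
      x.1.2.2.1 = m • (1 : Matrix (Fin 4) (Fin 4) K9) := by
  have hc : x.1.1 ∈ Subgroup.center (SpecialLinearGroup (Fin 3) K4) := (QuotientGroup.eq_one_iff _).1 hx
  obtain ⟨r, hr, he⟩ := Matrix.SpecialLinearGroup.mem_center_iff.1 hc
  have hs : x.1.1.1 = r • (1 : Matrix (Fin 3) (Fin 3) K4) := by
    rw [← he]; ext i j; simp [Matrix.scalar_apply, Matrix.diagonal_apply, Matrix.one_apply]
  have hr3 : r * (r * r) = 1 := by
    rw [show r * (r * r) = r ^ Fintype.card (Fin 3) by rw [Fintype.card_fin]; ring]; exact hr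
  have hg : ∀ A, x.1.1.1 * A = A * x.1.1.1 := fun A => by rw [hs, Matrix.smul_mul, Matrix.mul_smul, one_mul, mul_one]
  have hu : IsUnit x.1.1.1 := (Matrix.isUnit_iff_isUnit_det _).2 (by rw [x.1.1.2]; exact isUnit_one)
  obtain ⟨h1, h2⟩ := rel_cov x.2
  obtain ⟨l, hl, el⟩ := scalar_of_rel h1 hg hu
  rw [← hg, mul_assoc, d_inv.2, mul_one] at h2
  obtain ⟨m, hm, em⟩ := scalar_of_rel h2 hg hu
  exact ⟨r, l, m, hr3, hl, hm, hs, el, em⟩

theorem ker_central : prj.ker ≤ Subgroup.center ↥cov := by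
  intro x hx
  obtain ⟨r, l, m, -, -, -, h1, h2, h3⟩ := ker_form hx
  refine Subgroup.mem_center_iff.2 fun g => Subtype.ext (x_ext ?_ ?_ ?_)
  · show g.1.1.1 * x.1.1.1 = x.1.1.1 * g.1.1.1; rw [h1]; simp
  · show g.1.2.1.1 * x.1.2.1.1 = x.1.2.1.1 * g.1.2.1.1; rw [h2]; simp
  · show g.1.2.2.1 * x.1.2.2.1 = x.1.2.2.1 * g.1.2.2.1; rw [h3]; simp

/-- The stem extension. -/
theorem exists_stem :
    Cfsg.IsStemExtension prj ∧ Nonempty (prj.ker ≃* Multiplicative (ZMod 3 × ZMod 4 × ZMod 4)) := by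
  obtain ⟨z0, c0, a0, b0, d0⟩ := exists_central 0
  obtain ⟨z1, c1, a1, b1, d1⟩ := exists_central 1
  obtain ⟨z2, c2, a2, b2, d2⟩ := exists_central 2
  simp only [Matrix.cons_val_zero, Matrix.cons_val_one, Matrix.cons_val] at a0 b0 d0 a1 b1 d1 a2 b2 d2
  have mk : ∀ (z : ↥cov) (s : K4), z.1.1.1 = s • (1 : Matrix (Fin 3) (Fin 3) K4) → z ∈ prj.ker := by
    intro z s hz
    refine (QuotientGroup.eq_one_iff _).2 (Subgroup.mem_center_iff.2 fun g => Subtype.ext ?_)
    show g.1 * z.1.1.1 = z.1.1.1 * g.1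
    rw [hz]; simp
  have k0 := mk z0 _ a0
  have k1 := mk z1 _ a1
  have k2 := mk z2 _ a2
  have pw : ∀ (z : ↥cov) (n : ℕ), (z ^ n).1.1.1 = z.1.1.1 ^ n ∧ (z ^ n).1.2.1.1 = z.1.2.1.1 ^ n ∧
      (z ^ n).1.2.2.1 = z.1.2.2.1 ^ n := fun z n => ⟨by simp, by simp, by simp⟩
  have ord : ∀ (z : ↥cov) (s : K4) (l m : K9) (n : ℕ), z.1.1.1 = s • 1 → z.1.2.1.1 = l • 1 → z.1.2.2.1 = m • 1 →
      s ^ n = 1 → l ^ n = 1 → m ^ n = 1 → z ^ n = 1 := by
    intro z s l m n e1 e2 e3 f1 f2 f3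
    refine Subtype.ext (x_ext ?_ ?_ ?_)
    · rw [(pw z n).1, e1, smul_pow, one_pow, f1, one_smul]; rfl
    · rw [(pw z n).2.1, e2, smul_pow, one_pow, f2, one_smul]; rfl
    · rw [(pw z n).2.2, e3, smul_pow, one_pow, f3, one_smul]; rfl
  obtain ⟨o3, o4⟩ := scalar_ord
  obtain ⟨π, hπ⟩ := exists_hom (⟨z0, k0⟩ : prj.ker) ⟨z1, k1⟩ ⟨z2, k2⟩
    (Subtype.ext (ord z0 _ _ _ 3 a0 b0 d0 o3 (one_pow _) (one_pow _)))
    (Subtype.ext (ord z1 _ _ _ 4 a1 b1 d1 (one_pow _) o4 (one_pow _)))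
    (Subtype.ext (ord z2 _ _ _ 4 a2 b2 d2 (one_pow _) o4 o4))
    (Subgroup.mem_center_iff.2 fun g => Subtype.ext (Subgroup.mem_center_iff.1 (ker_central k0) g))
    (Subgroup.mem_center_iff.2 fun g => Subtype.ext (Subgroup.mem_center_iff.1 (ker_central k1) g))
  have hval : ∀ a b c, ((π (Multiplicative.ofAdd (a, b, c)) : ↥cov) : X).1.1 = om ^ a.val • 1 ∧
      ((π (Multiplicative.ofAdd (a, b, c)) : ↥cov) : X).2.1.1 = (im ^ b.val * im ^ c.val) • 1 ∧
      ((π (Multiplicative.ofAdd (a, b, c)) : ↥cov) : X).2.2.1 = im ^ c.val • 1 := by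
    intro a b c
    rw [hπ]
    simp only [Subgroup.coe_mul, SubmonoidClass.coe_pow, Prod.fst_mul, Prod.snd_mul, Matrix.SpecialLinearGroup.coe_mul,
      Prod.pow_fst, Prod.pow_snd, Matrix.SpecialLinearGroup.coe_pow, a0, b0, d0, a1, b1, d1, a2, b2, d2, smul_pow,
      one_pow, Matrix.smul_mul, one_mul, smul_smul, one_smul, mul_one, and_self]
  have hsurj : Function.Surjective π := by
    rintro ⟨x, hx⟩
    obtain ⟨r, l, m, hr, hl, hm, e1, e2, e3⟩ := ker_form hx
    obtain ⟨a, b, c, f1, f2, f3⟩ := scalar_surj r l m hr hl hm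
    obtain ⟨g1, g2, g3⟩ := hval (a.val : ZMod 3) (b.val : ZMod 4) (c.val : ZMod 4)
    rw [ZMod.val_natCast, Nat.mod_eq_of_lt a.isLt] at g1
    rw [ZMod.val_natCast, ZMod.val_natCast, Nat.mod_eq_of_lt b.isLt, Nat.mod_eq_of_lt c.isLt] at g2
    rw [ZMod.val_natCast, Nat.mod_eq_of_lt c.isLt] at g3
    exact ⟨_, Subtype.ext (Subtype.ext (x_ext (g1.trans (by rw [f1, e1])) (g2.trans (by rw [f2, e2]))
      (g3.trans (by rw [f3, e3]))))⟩
  have hinj : Function.Injective π := by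
    rw [injective_iff_map_eq_one]
    intro x hx
    obtain ⟨a, b, c⟩ := x
    obtain ⟨g1, g2, g3⟩ := hval a b c
    have hx' : π (Multiplicative.ofAdd (a, b, c)) = 1 := hx
    rw [hx'] at g1 g2 g3
    have e : ∀ {n : Type} [Fintype n] [DecidableEq n] [Nonempty n] {R : Type} [CommRing R] (s : R),
        (1 : Matrix n n R) = s • 1 → s = 1 := fun s h => by
      obtain ⟨i⟩ := ‹Nonempty _›
      have h' := congrFun (congrFun h i) i
      simpa using h'.symm
    obtain ⟨rfl, rfl, rfl⟩ := scalar_inj a b c (e _ g1) (e _ g2) (e _ g3)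
    rfl
  refine ⟨⟨prj_surjective, ker_central, fun x hx => ?_⟩, ⟨(MulEquiv.ofBijective π ⟨hinj, hsurj⟩).symm⟩⟩
  obtain ⟨⟨a, b, c⟩, hy⟩ := hsurj ⟨x, hx⟩
  have hx' : x = z0 ^ a.val * z1 ^ b.val * z2 ^ c.val := by
    have := congrArg Subtype.val ((hπ a b c).symm.trans hy)
    exact this.symm
  rw [hx']
  exact mul_mem (mul_mem (pow_mem c0 _) (pow_mem c1 _)) (pow_mem c2 _)

end Cfsg.Agent.Lib.PSLThreeFourMult
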