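import Mathlib

/-!
Computable fields with four and with nine elements.
-/

set_option autoImplicit false

namespace Cfsg.Agent.Lib.PSLThreeFourMult

/-- The field with four elements. -/
structure K4 where
  /-- The coordinates over the prime field. -/
  v : Fin 4
  deriving DecidableEq

namespace K4

/-- The underlying equivalence. -/
def k4Equiv : Fin 4 ≃ K4 := ⟨fun v => ⟨v⟩, fun a => a.v, fun _ => rfl, fun _ => rfl⟩

instance : Fintype K4 := Fintype.ofEquiv _ k4Equiv

/-- The element with the given code. -/
def el (n : ℕ) : K4 := ⟨⟨n % 4, Nat.mod_lt _ (by omega)⟩⟩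

/-- The multiplication table. -/
def mulTab : ℕ := 0x9c78e400

instance : Zero K4 := ⟨el 0⟩
instance : One K4 := ⟨el 1⟩
instance : Add K4 := ⟨fun a b => el (Nat.xor a.v.val b.v.val)⟩
instance : Neg K4 := ⟨fun a => a⟩
instance : Mul K4 := ⟨fun a b => el (mulTab >>> (2 * (4 * a.v.val + b.v.val)))⟩
instance : Inv K4 := ⟨fun a => a * a⟩

instance : Field K4 where
  add_assoc a b c := by revert a b c; decide +kernel
  zero_add a := by revert a; decide +kernel
  add_zero a := by revert a; decide +kernel
  add_comm a b := by revert a b; decide +kernel
  nsmul := nsmulRec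
  zsmul := zsmulRec
  neg_add_cancel a := by revert a; decide +kernel
  mul_assoc a b c := by revert a b c; decide +kernel
  mul_comm a b := by revert a b; decide +kernel
  one_mul a := by revert a; decide +kernel
  mul_one a := by revert a; decide +kernel
  left_distrib a b c := by revert a b c; decide +kernel
  right_distrib a b c := by revert a b c; decide +kernel
  zero_mul a := by revert a; decide +kernel
  mul_zero a := by revert a; decide +kernel
  mul_inv_cancel a := by revert a; decide +kernel
  inv_zero := by decide +kernel
  exists_pair_ne := ⟨0, 1, by decide +kernel⟩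
  nnqsmul := _
  qsmul := _

theorem card_eq : Fintype.card K4 = 4 := by
  rw [← Fintype.card_congr k4Equiv]; rfl

instance : CharP K4 2 := CharTwo.of_one_ne_zero_of_two_eq_zero (by decide +kernel) (by decide +kernel)

end K4

/-- The field with nine elements. -/
structure K9 where
  /-- The code. -/
  v : Fin 9
  deriving DecidableEq

namespace K9

/-- The underlying equivalence. -/
def k9Equiv : Fin 9 ≃ K9 := ⟨fun v => ⟨v⟩, fun a => a.v, fun _ => rfl, fun _ => rfl⟩

instance : Fintype K9 := Fintype.ofEquiv _ k9Equiv

/-- The element with the given code. -/
def el (n : ℕ) : K9 := ⟨⟨n % 9, Nat.mod_lt _ (by omega)⟩⟩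

/-- The addition table. -/
def addTab : ℕ := 0x435102768354021687543210876102768435021687354210876543768435102687354021876543210

/-- The multiplication table. -/
def mulTab : ℕ := 0x615237480138624570582471360264318750327165840741852630453786120876543210000000000

/-- The negation table. -/
def negTab : ℕ := 0x453786120

/-- The inversion table. -/
def invTab : ℕ := 0x783456210

instance : Zero K9 := ⟨el 0⟩
instance : One K9 := ⟨el 1⟩
instance : Add K9 := ⟨fun a b => el (addTab >>> (4 * (9 * a.v.val + b.v.val)) % 16)⟩
instance : Neg K9 := ⟨fun a => el (negTab >>> (4 * a.v.val) % 16)⟩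
instance : Mul K9 := ⟨fun a b => el (mulTab >>> (4 * (9 * a.v.val + b.v.val)) % 16)⟩
instance : Inv K9 := ⟨fun a => el (invTab >>> (4 * a.v.val) % 16)⟩

instance : Field K9 where
  add_assoc a b c := by revert a b c; decide +kernel
  zero_add a := by revert a; decide +kernel
  add_zero a := by revert a; decide +kernel
  add_comm a b := by revert a b; decide +kernel
  nsmul := nsmulRec
  zsmul := zsmulRec
  neg_add_cancel a := by revert a; decide +kernel
  mul_assoc a b c := by revert a b c; decide +kernel
  mul_comm a b := by revert a b; decide +kernel
  one_mul a := by revert a; decide +kernel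
  mul_one a := by revert a; decide +kernel
  left_distrib a b c := by revert a b c; decide +kernel
  right_distrib a b c := by revert a b c; decide +kernel
  zero_mul a := by revert a; decide +kernel
  mul_zero a := by revert a; decide +kernel
  mul_inv_cancel a := by revert a; decide +kernel
  inv_zero := by decide +kernel
  exists_pair_ne := ⟨0, 1, by decide +kernel⟩
  nnqsmul := _
  qsmul := _

theorem card_eq : Fintype.card K9 = 9 := by
  rw [← Fintype.card_congr k9Equiv]; rfl

end K9

end Cfsg.Agent.Lib.PSLThreeFourMult
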