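import Cfsg.Agent.Lib.PSLThreeFourMult.Cover

/-!
The Schur multiplier of the plane group over four elements.
-/

set_option autoImplicit false

namespace Cfsg.Agent.Lib.PSLThreeFourMult

open Cfsg
open scoped commutatorElement

universe u

theorem multiplier {F : Type u} [Field F] [Fintype F] (hF : Fintype.card F = 4) :
    Cfsg.HasSchurMultiplier (Matrix.ProjectiveSpecialLinearGroup (Fin 3) F)
      (Multiplicative (ZMod 3 × ZMod 4 × ZMod 4)) := by
  refine ⟨?_, fun Γ _ _ σ hσ => kernel_quotient hF σ hσ⟩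
  obtain ⟨⟨hs, hc, hcm⟩, ⟨eA⟩⟩ := exists_stem
  let e : K4 ≃+* F := FiniteField.ringEquivOfCardEq (by rw [K4.card_eq, hF])
  let eS : Matrix.SpecialLinearGroup (Fin 3) K4 ≃* Matrix.SpecialLinearGroup (Fin 3) F :=
    { Matrix.SpecialLinearGroup.map (e : K4 →+* F) with
      invFun := Matrix.SpecialLinearGroup.map (e.symm : F →+* K4)
      left_inv := fun A => by ext i j; exact e.symm_apply_apply _
      right_inv := fun A => by ext i j; exact e.apply_symm_apply _ }
  let eG : Matrix.ProjectiveSpecialLinearGroup (Fin 3) K4 ≃* Matrix.ProjectiveSpecialLinearGroup (Fin 3) F :=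
    QuotientGroup.congr _ _ eS (by
      ext x
      constructor
      · rintro ⟨y, hy, rfl⟩
        exact Subgroup.mem_center_iff.2 fun g => eS.symm.injective (by
          rw [map_mul, map_mul, show eS.symm ((eS : _ →* _) y) = y from eS.symm_apply_apply y]
          exact Subgroup.mem_center_iff.1 hy _)
      · intro hx
        refine ⟨eS.symm x, Subgroup.mem_center_iff.2 fun g => eS.injective ?_, eS.apply_symm_apply x⟩
        rw [map_mul, map_mul, MulEquiv.apply_symm_apply]
        exact Subgroup.mem_center_iff.1 hx _)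
  let eU : ULift.{u} ↥cov ≃* ↥cov := MulEquiv.ulift
  let σ' : ULift.{u} ↥cov →* Matrix.ProjectiveSpecialLinearGroup (Fin 3) F :=
    (eG.toMonoidHom.comp prj).comp eU.toMonoidHom
  have hmem : ∀ x, x ∈ σ'.ker ↔ eU x ∈ prj.ker := fun x => by
    show eG (prj (eU x)) = 1 ↔ prj (eU x) = 1
    exact map_eq_one_iff eG eG.injective
  refine ⟨ULift.{u} ↥cov, inferInstance, inferInstance, σ', ⟨?_, ?_, ?_⟩, ⟨?_⟩⟩
  · exact (eG.surjective.comp hs).comp eU.surjective
  · intro x hx
    refine Subgroup.mem_center_iff.2 fun g => eU.injective ?_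
    rw [map_mul, map_mul]
    exact Subgroup.mem_center_iff.1 (hc ((hmem x).1 hx)) (eU g)
  · intro x hx
    have h : eU x ∈ commutator ↥cov := hcm ((hmem x).1 hx)
    have h' : eU.symm (eU x) ∈ (commutator ↥cov).map eU.symm.toMonoidHom := Subgroup.mem_map_of_mem _ h
    rw [MulEquiv.symm_apply_apply, commutator_def, Subgroup.map_commutator,
      Subgroup.map_top_of_surjective _ eU.symm.surjective] at h'
    exact h'
  · refine MulEquiv.trans ?_ eA
    refine MulEquiv.trans (eU.subgroupMap σ'.ker) (MulEquiv.subgroupCongr ?_)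
    ext y
    constructor
    · rintro ⟨x, hx, rfl⟩; exact (hmem x).1 hx
    · intro hy; exact ⟨eU.symm y, (hmem _).2 (by simpa using hy), eU.apply_symm_apply y⟩

end Cfsg.Agent.Lib.PSLThreeFourMult
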