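import Cfsg.Agent.Lib.PlaneCover.Basic
import Cfsg.Agent.Lib.Compute.SuzukiMult

/-!
Canonical lifts of root subgroups in central extensions of the plane group over four elements.
-/

set_option autoImplicit false
set_option linter.unusedSectionVars false

namespace Cfsg.Agent.Lib.PSLThreeFourMult

open Cfsg.Agent.Lib.PlaneCover Cfsg.Agent.Lib.PGroups.UniFour
open scoped commutatorElement

universe u v

section Central

variable {Δ : Type u} {Q : Type v} [Group Δ] [Group Q] {σ : Δ →* Q} (hc : σ.ker ≤ Subgroup.center Δ)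

include hc

theorem comm_congr {a a' b b' : Δ} (ha : σ a = σ a') (hb : σ b = σ b') : ⁅a, b⁆ = ⁅a', b'⁆ := by
  have key : ∀ {x x' : Δ}, σ x = σ x' → ∃ k ∈ Subgroup.center Δ, x = x' * k := by
    intro x x' h
    refine ⟨x'⁻¹ * x, hc ?_, (mul_inv_cancel_left _ _).symm⟩
    rw [MonoidHom.mem_ker, map_mul, map_inv, h, inv_mul_cancel]
  obtain ⟨k, hk, rfl⟩ := key ha
  obtain ⟨l, hl, rfl⟩ := key hb
  have e1 := Subgroup.mem_center_iff.1 hk
  have e2 := Subgroup.mem_center_iff.1 hl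
  simp only [commutatorElement_def, mul_inv_rev]
  calc a' * k * (b' * l) * (k⁻¹ * a'⁻¹) * (l⁻¹ * b'⁻¹)
      = a' * ((b' * l) * k) * k⁻¹ * a'⁻¹ * (l⁻¹ * b'⁻¹) := by rw [e1 (b' * l)]; group
    _ = a' * b' * (l * a'⁻¹) * l⁻¹ * b'⁻¹ := by group
    _ = a' * b' * (a'⁻¹ * l) * l⁻¹ * b'⁻¹ := by rw [e2 a'⁻¹]
    _ = a' * b' * a'⁻¹ * b'⁻¹ := by group

theorem mem_center_of_comm {x y : Δ} (h : Commute (σ x) (σ y)) : ⁅x, y⁆ ∈ Subgroup.center Δ :=
  hc (by rw [MonoidHom.mem_ker, map_commutatorElement, commutatorElement_eq_one_iff_commute]; exact h)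

theorem comm_mul_left {x x' y : Δ} (h : Commute (σ x') (σ y)) : ⁅x * x', y⁆ = ⁅x, y⁆ * ⁅x', y⁆ := by
  have e := Subgroup.mem_center_iff.1 (mem_center_of_comm hc h)
  calc ⁅x * x', y⁆ = x * ⁅x', y⁆ * x⁻¹ * ⁅x, y⁆ := by simp only [commutatorElement_def]; group
    _ = ⁅x', y⁆ * ⁅x, y⁆ := by rw [e x, mul_inv_cancel_right]
    _ = _ := (e _).symm

theorem comm_mul_right {x y y' : Δ} (h : Commute (σ x) (σ y')) : ⁅x, y * y'⁆ = ⁅x, y⁆ * ⁅x, y'⁆ := by
  have e := Subgroup.mem_center_iff.1 (mem_center_of_comm hc h)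
  calc ⁅x, y * y'⁆ = ⁅x, y⁆ * (y * ⁅x, y'⁆ * y⁻¹) := by simp only [commutatorElement_def]; group
    _ = _ := by rw [e y, mul_inv_cancel_right]

theorem comm_conj {g x y x' y' : Δ} (h : Commute (σ x) (σ y)) (hx : σ g * σ x * (σ g)⁻¹ = σ x')
    (hy : σ g * σ y * (σ g)⁻¹ = σ y') : ⁅x', y'⁆ = ⁅x, y⁆ := by
  rw [← comm_congr hc (show σ (g * x * g⁻¹) = σ x' by simp [hx]) (show σ (g * y * g⁻¹) = σ y' by simp [hy])]
  calc ⁅g * x * g⁻¹, g * y * g⁻¹⁆ = g * ⁅x, y⁆ * g⁻¹ := by simp only [commutatorElement_def]; group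
    _ = _ := by rw [Subgroup.mem_center_iff.1 (mem_center_of_comm hc h) g, mul_inv_cancel_right]

/-- A root subgroup with abelian preimage lifts to a homomorphism commuting with the torus. -/
theorem exists_lift {F : Type*} [Field F] (hs : Function.Surjective σ) (r : F → Q)
    (hr : ∀ a a', r (a + a') = r a * r a') (hab : ∀ a a' : F, ∀ x y, σ x = r a → σ y = r a' → ⁅x, y⁆ = 1)
    (t : Δ) (c v : F) (ht : ∀ a, σ t * r a * (σ t)⁻¹ = r (c * a)) (hv : c * v + -v = 1) :
    ∃ R : F → Δ, (∀ a, σ (R a) = r a) ∧ (∀ a a', R (a + a') = R a * R a') ∧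
      ∀ a, t * R a * t⁻¹ = R (c * a) := by
  choose s hs using hs
  have hinv : ∀ a, (r a)⁻¹ = r (-a) := fun a => by
    refine inv_eq_of_mul_eq_one_right ?_
    rw [← hr, add_neg_cancel]
    have h := hr 0 0
    rw [add_zero] at h
    exact left_eq_mul.1 h
  have him : ∀ a, σ ⁅t, s (r (v * a))⁆ = r a := fun a => by
    rw [map_commutatorElement, commutatorElement_def, hs, ht, hinv, ← hr]
    congr 1
    linear_combination a * hv
  refine ⟨fun a => ⁅t, s (r (v * a))⁆, him, fun a a' => ?_, fun a => ?_⟩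
  · have e : ⁅t, s (r (v * (a + a')))⁆ = ⁅t, s (r (v * a)) * s (r (v * a'))⁆ :=
      comm_congr hc rfl (by rw [hs, map_mul, hs, hs, mul_add, hr])
    have e2 : s (r (v * a)) * ⁅t, s (r (v * a'))⁆ * (s (r (v * a)))⁻¹ = ⁅t, s (r (v * a'))⁆ := by
      rw [commutatorElement_eq_one_iff_mul_comm.1 (hab (v * a) a' _ _ (hs _) (him a')), mul_inv_cancel_right]
    show ⁅t, s (r (v * (a + a')))⁆ = _
    rw [e]
    calc ⁅t, s (r (v * a)) * s (r (v * a'))⁆ =
        ⁅t, s (r (v * a))⁆ * (s (r (v * a)) * ⁅t, s (r (v * a'))⁆ * (s (r (v * a)))⁻¹) := by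
          simp only [commutatorElement_def]; group
      _ = _ := by rw [e2]
  · calc t * ⁅t, s (r (v * a))⁆ * t⁻¹ = ⁅t, t * s (r (v * a)) * t⁻¹⁆ := by
          simp only [commutatorElement_def]; group
      _ = _ := comm_congr hc rfl (by rw [hs, map_mul, map_mul, map_inv, hs, ht, ← mul_left_comm])

end Central

variable {F : Type v} [Field F]

/-- The first root subgroup. -/
def rA (a : F) : L3 F := proj (uni (a, 0, 0))

/-- The second root subgroup. -/
def rB (b : F) : L3 F := proj (uni (0, b, 0))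

/-- The central root subgroup. -/
def rC (c : F) : L3 F := proj (uni (0, 0, c))

theorem pu_mul (a b c a' b' c' : F) :
    proj (uni (a, b, c)) * proj (uni (a', b', c')) = proj (uni (a + a', b + b', c + c' + a * b')) := by
  rw [← map_mul, uni_mul]

theorem rA_add (a a' : F) : rA (a + a') = rA a * rA a' := by
  simp only [rA, pu_mul]; simp

theorem rB_add (a a' : F) : rB (a + a') = rB a * rB a' := by
  simp only [rB, pu_mul]; simp

theorem rC_add (a a' : F) : rC (a + a') = rC a * rC a' := by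
  simp only [rC, pu_mul]; simp

theorem rA_rC_commute (a c : F) : Commute (rA a) (rC c) := by
  show _ * _ = _ * _
  simp only [rA, rC, pu_mul]; simp

theorem rB_rC_commute (a c : F) : Commute (rB a) (rC c) := by
  show _ * _ = _ * _
  simp only [rB, rC, pu_mul]; simp

theorem uni_split (a b c : F) : proj (uni (a, b, c)) = rA a * rB b * rC (c - a * b) := by
  simp only [rA, rB, rC, pu_mul]; simp

theorem rA_rB_comm (a b : F) : ⁅rA a, rB b⁆ = rC (a * b) := by
  rw [commutatorElement_def, mul_inv_eq_iff_eq_mul, mul_inv_eq_iff_eq_mul]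
  simp only [rA, rB, rC, pu_mul]; simp [add_comm]

section Torus

variable {w : F}

/-- The torus element. -/
def torSL (hw : w * (w * w) = 1) : SL3 F :=
  ⟨!![w, 0, 0; 0, w * w, 0; 0, 0, 1], by simp [Matrix.det_fin_three]; linear_combination hw⟩

theorem torSL_uni (hw : w * (w * w) = 1) (a b c : F) :
    torSL hw * uni (a, b, c) = uni (w * w * a, w * w * b, w * c) * torSL hw := by
  apply Subtype.ext
  simp only [Matrix.SpecialLinearGroup.coe_mul]
  ext i j
  fin_cases i <;> fin_cases j <;> simp [torSL, uni, Matrix.mul_apply, Fin.sum_univ_three] <;> grind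

/-- The torus in the projective group. -/
def tor (hw : w * (w * w) = 1) : L3 F := proj (torSL hw)

theorem tor_uni (hw : w * (w * w) = 1) (a b c : F) :
    tor hw * proj (uni (a, b, c)) * (tor hw)⁻¹ = proj (uni (w * w * a, w * w * b, w * c)) := by
  rw [mul_inv_eq_iff_eq_mul, tor, ← map_mul, ← map_mul, torSL_uni]

end Torus

/-- The lower shear. -/
def shearSL (F : Type v) [Field F] : SL3 F :=
  ⟨!![1, 0, 0; 0, 1, 0; 0, 1, 1], by simp [Matrix.det_fin_three]⟩

theorem shear_uni [CharP F 2] (a c : F) :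
    proj (shearSL F) * proj (uni (a, 0, c)) * (proj (shearSL F))⁻¹ = proj (uni (a + c, 0, c)) := by
  have h2 : (2 : F) = 0 := CharTwo.two_eq_zero
  rw [mul_inv_eq_iff_eq_mul, ← map_mul, ← map_mul]
  congr 1
  apply Subtype.ext
  simp only [Matrix.SpecialLinearGroup.coe_mul]
  ext i j
  fin_cases i <;> fin_cases j <;> simp [shearSL, uni, Matrix.mul_apply, Fin.sum_univ_three] <;> grind

theorem upper_uni [CharP F 2] (a c : F) :
    rB (1 : F) * proj (uni (a, 0, c)) * (rB (1 : F))⁻¹ = proj (uni (a, 0, c + a)) := by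
  have h2 : (2 : F) = 0 := CharTwo.two_eq_zero
  rw [mul_inv_eq_iff_eq_mul, rB, ← map_mul, ← map_mul, uni_mul, uni_mul]
  congr 2
  ext <;> grind

/-- In every central extension the long root pairing depends on the product only and root groups
have abelian preimages. -/
theorem pairing [CharP F 2] {w : F} (hw : w * (w * w) = 1) (hF : ∀ x : F, x = 0 ∨ ∃ k : ℕ, x = (w * w) ^ k)
    {Δ : Type u} [Group Δ] (σ : Δ →* L3 F) (hs : Function.Surjective σ) (hc : σ.ker ≤ Subgroup.center Δ) :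
    (∀ a a' : F, ∀ x y, σ x = rA a → σ y = rA a' → ⁅x, y⁆ = 1) ∧
      (∀ a a' : F, ∀ x y, σ x = rC a → σ y = rC a' → ⁅x, y⁆ = 1) ∧
      ∀ a c : F, ∀ x y x' y', σ x = rA a → σ y = rC c → σ x' = rA 1 → σ y' = rC (a * c) →
        ⁅x, y⁆ = ⁅x', y'⁆ := by
  choose s hs using hs
  let φ : F → F → Δ := fun a c => ⁅s (rA a), s (rC c)⁆
  have hz : ∀ (r : F → L3 F), (∀ a a', r (a + a') = r a * r a') → r 0 = 1 := fun r hr => by
    have h := hr 0 0
    rw [add_zero] at h
    exact left_eq_mul.1 h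
  have hone : ∀ a, ⁅s (rA a), s 1⁆ = 1 ∧ ⁅s 1, s (rC a)⁆ = 1 := fun a => by
    constructor
    · rw [comm_congr hc (a' := s (rA a)) (b' := 1) rfl (by rw [hs, map_one])]; simp
    · rw [comm_congr hc (a' := 1) (b' := s (rC a)) (by rw [hs, map_one]) rfl]; simp
  have step : ∀ a c, φ (w * w * a) (w * c) = φ a c := fun a c =>
    comm_conj hc (g := s (tor hw)) (by rw [hs, hs]; exact rA_rC_commute a c)
      (by rw [hs, hs, hs, rA, tor_uni, rA]; simp) (by rw [hs, hs, hs, rC, tor_uni, rC]; simp)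
  have stepk : ∀ (k : ℕ) a c, φ ((w * w) ^ k * a) (w ^ k * c) = φ a c := by
    intro k
    induction k with
    | zero => simp
    | succ k ih =>
      intro a c
      rw [← ih a c, ← step ((w * w) ^ k * a) (w ^ k * c)]
      simp only [pow_succ', mul_assoc]
  have hφ : ∀ a c, φ a c = φ 1 (a * c) := by
    intro a c
    rcases hF a with rfl | ⟨k, rfl⟩
    · show ⁅s (rA 0), s (rC c)⁆ = ⁅s (rA 1), s (rC (0 * c))⁆
      rw [hz rA rA_add, (hone c).2, zero_mul, hz rC rC_add, (hone 1).1]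
    · rw [← stepk k 1 ((w * w) ^ k * c), mul_one, ← mul_assoc, ← mul_pow, hw, one_pow, one_mul]
  have hsymm : ∀ a a', φ a a' = φ a' a := fun a a' => by rw [hφ a, hφ a', mul_comm]
  have comAA : ∀ a a', Commute (σ (s (rA a))) (σ (s (rA a'))) := fun a a' => by
    rw [hs, hs]; show _ * _ = _ * _; rw [← rA_add, ← rA_add, add_comm]
  have comCC : ∀ a a', Commute (σ (s (rC a))) (σ (s (rC a'))) := fun a a' => by
    rw [hs, hs]; show _ * _ = _ * _; rw [← rC_add, ← rC_add, add_comm]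
  have comAC : ∀ a a', Commute (σ (s (rA a))) (σ (s (rC a'))) := fun a a' => by
    rw [hs, hs]; exact rA_rC_commute a a'
  have expand : ∀ a a', ⁅s (rA a) * s (rC a), s (rA a') * s (rC a')⁆ =
      ⁅s (rA a), s (rA a')⁆ * ⁅s (rC a), s (rC a')⁆ := by
    intro a a'
    have c1 : Commute (σ (s (rC a))) (σ (s (rA a') * s (rC a'))) := by
      rw [map_mul]; exact (comAC a' a).symm.mul_right (comCC a a')
    rw [comm_mul_left hc c1, comm_mul_right hc (comAC a a'), comm_mul_right hc (comCC a a')]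
    have e : ⁅s (rC a), s (rA a')⁆ = (φ a' a)⁻¹ := (commutatorElement_inv _ _).symm
    rw [e, ← hsymm]
    show ⁅s (rA a), s (rA a')⁆ * φ a a' * ((φ a a')⁻¹ * ⁅s (rC a), s (rC a')⁆) = _
    group
  have eC : ∀ a a', ⁅s (rC a), s (rC a')⁆ = 1 := by
    intro a a'
    have h := comm_conj hc (g := s (rB 1)) (x' := s (rA a) * s (rC a)) (y' := s (rA a') * s (rC a'))
      (comAA a a')
      (by rw [map_mul, hs, hs, hs, rA, upper_uni]; simp only [rC, pu_mul]; simp)
      (by rw [map_mul, hs, hs, hs, rA, upper_uni]; simp only [rC, pu_mul]; simp)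
    rw [expand] at h
    exact mul_eq_left.1 h
  have eA : ∀ a a', ⁅s (rA a), s (rA a')⁆ = 1 := by
    intro a a'
    have h := comm_conj hc (g := s (proj (shearSL F))) (x' := s (rA a) * s (rC a))
      (y' := s (rA a') * s (rC a')) (comCC a a')
      (by rw [map_mul, hs, hs, hs, rC, shear_uni]; simp only [rA, pu_mul]; simp)
      (by rw [map_mul, hs, hs, hs, rC, shear_uni]; simp only [rA, pu_mul]; simp)
    rw [expand, eC, mul_one] at h
    exact h
  refine ⟨fun a a' x y hx hy => ?_, fun a a' x y hx hy => ?_, fun a c x y x' y' hx hy hx' hy' => ?_⟩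
  · rw [comm_congr hc (hx.trans (hs _).symm) (hy.trans (hs _).symm)]; exact eA a a'
  · rw [comm_congr hc (hx.trans (hs _).symm) (hy.trans (hs _).symm)]; exact eC a a'
  · rw [comm_congr hc (hx.trans (hs _).symm) (hy.trans (hs _).symm),
      comm_congr hc (hx'.trans (hs _).symm) (hy'.trans (hs _).symm)]
    exact hφ a c

end Cfsg.Agent.Lib.PSLThreeFourMult
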