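import Cfsg.Agent.Lib.PSLThreeFourMult.Checks

/-!
Kernel checks on the word tree and the witnesses.
-/

set_option autoImplicit false
set_option synthInstance.maxSize 2000
set_option synthInstance.maxHeartbeats 200000

namespace Cfsg.Agent.Lib.PSLThreeFourMult

open Data

/-- The first coordinate of a node. -/
def nodeA (k : ℕ) : Matrix (Fin 3) (Fin 3) K4 := mat3 (nA.getD k 0)

/-- The second coordinate of a node. -/
def nodeB (k : ℕ) : Matrix (Fin 4) (Fin 4) K9 := mat4 (nB.getD k 0)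

/-- The third coordinate of a node. -/
def nodeC (k : ℕ) : Matrix (Fin 4) (Fin 4) K9 := mat4 (nC.getD k 0)

/-- An entry, in degree three. -/
def ent3 (A : Matrix (Fin 3) (Fin 3) K4) (a b : Fin 3) : K4 := A a b

/-- An entry, in degree four. -/
def ent4 (A : Matrix (Fin 4) (Fin 4) K9) (a b : Fin 4) : K9 := A a b

theorem tree : ∀ k : Fin 355, k.val = 0 ∨ (parTab.getD k.val 0 < k.val ∧ genTab.getD k.val 0 < 2 ∧
    (∀ a b : Fin 3, ent3 (nodeA k.val) a b = mul3 (nodeA (parTab.getD k.val 0)) (gMat (genTab.getD k.val 0)) a b) ∧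
    (∀ a b : Fin 4, ent4 (nodeB k.val) a b = mul4 (nodeB (parTab.getD k.val 0)) (mMat (genTab.getD k.val 0)) a b) ∧
    ∀ a b : Fin 4, ent4 (nodeC k.val) a b = mul4 (nodeC (parTab.getD k.val 0)) (mMat (genTab.getD k.val 0 + 2)) a b) := by
  decide +kernel

theorem root_node : (∀ a b : Fin 3, ent3 (nodeA 0) a b = if a = b then 1 else 0) ∧
    (∀ a b : Fin 4, ent4 (nodeB 0) a b = if a = b then 1 else 0) ∧
    ∀ a b : Fin 4, ent4 (nodeC 0) a b = if a = b then 1 else 0 := by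
  decide +kernel

/-- The scalar of degree three appearing in the twist. -/
def om : K4 := K4.el 2

/-- The twisting matrix. -/
def dMat : Matrix (Fin 3) (Fin 3) K4 := Matrix.diagonal ![om, 1, 1]

/-- The inverse twisting matrix. -/
def dInv : Matrix (Fin 3) (Fin 3) K4 := Matrix.diagonal ![om * om, 1, 1]

theorem d_inv : dInv * dMat = 1 ∧ dMat * dInv = 1 := by decide +kernel

theorem twist : dMat * gMat 0 * dInv = gMat 2 ∧ dMat * gMat 1 * dInv = gMat 3 := by decide +kernel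

theorem det_g : (gMat 0).det = 1 ∧ (gMat 1).det = 1 := by
  constructor <;> rw [Matrix.det_fin_three] <;> decide +kernel

theorem det_m : ∀ r : Fin 4, (mMat r.val).det = 1 := by decide +kernel

/-- The code of a matrix of degree three. -/
def code3 (A : Matrix (Fin 3) (Fin 3) K4) : ℕ :=
  (ent3 A 0 0).v.val + 4 * (ent3 A 0 1).v.val + 16 * (ent3 A 0 2).v.val + 64 * (ent3 A 1 0).v.val +
    256 * (ent3 A 1 1).v.val + 1024 * (ent3 A 1 2).v.val + 4096 * (ent3 A 2 0).v.val +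
    16384 * (ent3 A 2 1).v.val + 65536 * (ent3 A 2 2).v.val

theorem e_code : ∀ i : Fin 315, eTab.getD i.val 0 = code3 (eMat i.val) := by decide +kernel

theorem e_lt : ∀ i : Fin 315, eTab.getD i.val 0 < 2 ^ 18 ∧ (i.val + 1 < 315 → eTab.getD i.val 0 < eTab.getD (i.val + 1) 0) := by
  decide +kernel

theorem transvections : ∀ i j : Fin 3, ∀ c : K4, i ≠ j → c ≠ 0 → ∃ t : Fin 18,
    transTab.getD t.val 0 < 355 ∧ ∀ a b : Fin 3, ent3 (nodeA (transTab.getD t.val 0)) a b =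
      (if a = b then 1 else 0) + (if a = i ∧ b = j then c else 0) := by
  decide +kernel

/-- An entry of the witness table. -/
def wit (r k : ℕ) : ℕ := witTab.getD (10 * r + k) 0

/-- The defining equation of one commutator witness. -/
def CommWit (u v ca cb cc : ℕ) : Prop :=
  u < 355 ∧ v < 355 ∧
  mat3 ca * (nodeA v * nodeA u) = nodeA u * nodeA v ∧
  mat4 cb * (nodeB v * nodeB u) = nodeB u * nodeB v ∧
  mat4 cc * (nodeC v * nodeC u) = nodeC u * nodeC v

theorem comm_wit : ∀ r : Fin 3,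
    CommWit (wit r.val 0) (wit r.val 1) (wit r.val 2) (wit r.val 3) (wit r.val 4) ∧
    CommWit (wit r.val 5) (wit r.val 6) (wit r.val 7) (wit r.val 8) (wit r.val 9) := by
  unfold CommWit; decide +kernel

/-- The square root of minus one. -/
def im : K9 := K9.el 3

theorem wit_val : ∀ r : Fin 3, mat3 (wit r.val 2) * mat3 (wit r.val 7) = (![om, 1, 1] r) • (1 : Matrix (Fin 3) (Fin 3) K4) ∧
    mat4 (wit r.val 3) * mat4 (wit r.val 8) = (![1, im, im] r) • (1 : Matrix (Fin 4) (Fin 4) K9) ∧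
    mat4 (wit r.val 4) * mat4 (wit r.val 9) = (![1, 1, im] r) • (1 : Matrix (Fin 4) (Fin 4) K9) := by
  decide +kernel

/-- The separating index. -/
def dg (k : ℕ) : ℕ := diagTab.getD k 0

/-- A squared product of lifts. -/
def sep (a b : ℕ) : Matrix (Fin 4) (Fin 4) K9 := (jMat a * jMat b) * (jMat a * jMat b)

theorem sep_diag : sep (dg 0) (dg 1) * sep (dg 2) (dg 3) = Matrix.diagonal ![K9.el 4, K9.el 5, K9.el 7, K9.el 8] ∧
    sep (dg 4) (dg 5) 0 1 ≠ 0 ∧ sep (dg 4) (dg 5) 0 2 ≠ 0 ∧ sep (dg 4) (dg 5) 0 3 ≠ 0 ∧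
    dg 0 < 315 ∧ dg 1 < 315 ∧ dg 2 < 315 ∧ dg 3 < 315 ∧ dg 4 < 315 ∧ dg 5 < 315 := by
  decide +kernel

theorem scalar_surj : ∀ r : K4, ∀ l m : K9, r * (r * r) = 1 → l * l * (l * l) = 1 → m * m * (m * m) = 1 →
    ∃ a : Fin 3, ∃ b c : Fin 4, om ^ a.val = r ∧ im ^ b.val * im ^ c.val = l ∧ im ^ c.val = m := by
  decide +kernel

theorem scalar_inj : ∀ a : ZMod 3, ∀ b c : ZMod 4, om ^ a.val = 1 → im ^ b.val * im ^ c.val = 1 → im ^ c.val = 1 →
    a = 0 ∧ b = 0 ∧ c = 0 := by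
  decide +kernel

theorem scalar_ord : om ^ 3 = 1 ∧ im ^ 4 = 1 := by decide +kernel

end Cfsg.Agent.Lib.PSLThreeFourMult
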