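import Cfsg.Agent.Lib.PSLThreeFourMult.Root

/-!
The even part of the Schur multiplier of the plane group over four elements is a quotient of `4 × 4`.
-/

set_option autoImplicit false
set_option linter.unusedSectionVars false

namespace Cfsg.Agent.Lib.PSLThreeFourMult

open Cfsg.Agent.Lib.PlaneCover Cfsg.Agent.Lib.PGroups.UniFour
open scoped commutatorElement

universe u v

theorem graph_rA {F : Type v} [Field F] [CharP F 2] (a : F) : graph (rA a) = rB a := by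
  rw [rA, graph_uni, rB]; simp

theorem graph_rB {F : Type v} [Field F] [CharP F 2] (a : F) : graph (rB a) = rA a := by
  rw [rB, graph_uni, rA]; simp

theorem graph_rC {F : Type v} [Field F] [CharP F 2] (a : F) : graph (rC a) = rC a := by
  rw [rC, graph_uni]; simp

theorem two_part {F : Type v} [Field F] [CharP F 2] {w : F} (hw : w * w = w + 1)
    (hF : ∀ x : F, x = 0 ∨ x = 1 ∨ x = w ∨ x = w + 1) {Δ : Type u} [Group Δ] (σ : Δ →* L3 F)
    (hs : Function.Surjective σ) (hc : σ.ker ≤ Subgroup.center Δ) :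
    ∃ p q, p ∈ σ.ker ∧ q ∈ σ.ker ∧ p ^ 4 = 1 ∧ q ^ 4 = 1 ∧
      ∀ z ∈ σ.ker, z ∈ ⁅(U0 F).comap σ, (U0 F).comap σ⁆ → z ∈ Subgroup.closure {p, q} := by
  have h2 : (2 : F) = 0 := CharTwo.two_eq_zero
  have hw3 : w * (w * w) = 1 := by linear_combination (w + 1) * hw + w * h2
  have hwu : w * w * (w * w) = w := by linear_combination w * hw3
  have hpow : ∀ x : F, x = 0 ∨ ∃ k : ℕ, x = (w * w) ^ k := by
    intro x
    rcases hF x with rfl | rfl | rfl | rfl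
    · exact Or.inl rfl
    · exact Or.inr ⟨0, (pow_zero _).symm⟩
    · exact Or.inr ⟨2, by rw [pow_two, hwu]⟩
    · exact Or.inr ⟨1, by rw [pow_one, hw]⟩
  obtain ⟨abA, abC, pair₁⟩ := pairing hw3 hpow σ hs hc
  let τ : Δ →* L3 F := (graph (F := F)).toMonoidHom.comp σ
  have hτc : τ.ker ≤ Subgroup.center Δ := fun x hx => hc (by
    have h : graph (σ x) = 1 := hx
    exact (MonoidHom.mem_ker).2 (graph.injective (by rw [h, map_one])))
  obtain ⟨abB', -, pair₂⟩ := pairing hw3 hpow τ (graph.surjective.comp hs) hτc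
  have abB : ∀ a a' : F, ∀ x y, σ x = rB a → σ y = rB a' → ⁅x, y⁆ = 1 := fun a a' x y hx hy =>
    abB' a a' x y (by show graph (σ x) = _; rw [hx, graph_rB]) (by show graph (σ y) = _; rw [hy, graph_rB])
  obtain ⟨t, ht⟩ := hs (tor hw3)
  obtain ⟨A, hA, Aadd, Aeq⟩ := exists_lift hc hs rA rA_add abA t (w * w) (w * w)
    (fun a => by rw [ht, rA, tor_uni, rA]; simp) (by grind)
  obtain ⟨B, hB, Badd, Beq⟩ := exists_lift hc hs rB rB_add abB t (w * w) (w * w)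
    (fun a => by rw [ht, rB, tor_uni, rB]; simp) (by grind)
  obtain ⟨C, hC, Cadd, Ceq⟩ := exists_lift hc hs rC rC_add abC t w w
    (fun a => by rw [ht, rC, tor_uni, rC]; simp) (by grind)
  have zero1 : ∀ R : F → Δ, (∀ a a', R (a + a') = R a * R a') → R 0 = 1 := fun R hR => by
    have h := hR 0 0
    rw [add_zero] at h
    exact left_eq_mul.1 h
  have A0' := zero1 A Aadd
  have B0' := zero1 B Badd
  have C0' := zero1 C Cadd
  let φ₁ : F → Δ := fun x => ⁅A 1, C x⁆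
  let φ₂ : F → Δ := fun x => ⁅B 1, C x⁆
  have hφ₁ : ∀ a c, ⁅A a, C c⁆ = φ₁ (a * c) := fun a c => pair₁ a c _ _ _ _ (hA a) (hC c) (hA 1) (hC _)
  have hφ₂ : ∀ b c, ⁅B b, C c⁆ = φ₂ (b * c) := fun b c => pair₂ b c _ _ _ _
    (by show graph (σ _) = _; rw [hB, graph_rB]) (by show graph (σ _) = _; rw [hC, graph_rC])
    (by show graph (σ _) = _; rw [hB, graph_rB]) (by show graph (σ _) = _; rw [hC, graph_rC])
  have comAC : ∀ a c, Commute (σ (A a)) (σ (C c)) := fun a c => by rw [hA, hC]; exact rA_rC_commute a c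
  have comBC : ∀ a c, Commute (σ (B a)) (σ (C c)) := fun a c => by rw [hB, hC]; exact rB_rC_commute a c
  have φ₁c : ∀ x, φ₁ x ∈ Subgroup.center Δ := fun x => mem_center_of_comm hc (comAC 1 x)
  have φ₂c : ∀ x, φ₂ x ∈ Subgroup.center Δ := fun x => mem_center_of_comm hc (comBC 1 x)
  have φ₁add : ∀ x y, φ₁ (x + y) = φ₁ x * φ₁ y := fun x y => by
    show ⁅A 1, C (x + y)⁆ = _; rw [Cadd]; exact comm_mul_right hc (comAC 1 y)
  have φ₂add : ∀ x y, φ₂ (x + y) = φ₂ x * φ₂ y := fun x y => by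
    show ⁅B 1, C (x + y)⁆ = _; rw [Cadd]; exact comm_mul_right hc (comBC 1 y)
  let ψ : F → F → Δ := fun a b => (C (a * b))⁻¹ * ⁅A a, B b⁆
  have hψk : ∀ a b, ψ a b ∈ σ.ker := fun a b => by
    rw [MonoidHom.mem_ker, map_mul, map_inv, map_commutatorElement, hA, hB, hC, rA_rB_comm, inv_mul_cancel]
  have hψc : ∀ a b g, g * ψ a b = ψ a b * g := fun a b => Subgroup.mem_center_iff.1 (hc (hψk a b))
  have hD : ∀ a b, ⁅A a, B b⁆ = C (a * b) * ψ a b := fun a b => (mul_inv_cancel_left _ _).symm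
  have cC : ∀ a b : F, C a * C b = C b * C a := fun a b => by rw [← Cadd, ← Cadd, add_comm]
  have conjA : ∀ a c, A a * C c * (A a)⁻¹ = φ₁ (a * c) * C c := fun a c => by
    rw [← hφ₁, commutatorElement_def, inv_mul_cancel_right]
  have conjB : ∀ a c, B a * C c * (B a)⁻¹ = φ₂ (a * c) * C c := fun a c => by
    rw [← hφ₂, commutatorElement_def, inv_mul_cancel_right]
  have ψaddL : ∀ a a' b, ψ (a + a') b = φ₁ (a * (a' * b)) * (ψ a' b * ψ a b) := by
    intro a a' b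
    have e : ⁅A (a + a'), B b⁆ = A a * ⁅A a', B b⁆ * (A a)⁻¹ * ⁅A a, B b⁆ := by
      rw [Aadd]; simp only [commutatorElement_def]; group
    show (C ((a + a') * b))⁻¹ * ⁅A (a + a'), B b⁆ = _
    rw [e, hD a' b, hD a b, inv_mul_eq_iff_eq_mul, add_mul, Cadd]
    calc A a * (C (a' * b) * ψ a' b) * (A a)⁻¹ * (C (a * b) * ψ a b)
        = A a * C (a' * b) * (ψ a' b * (A a)⁻¹) * C (a * b) * ψ a b := by group
      _ = (A a * C (a' * b) * (A a)⁻¹) * (ψ a' b * C (a * b)) * ψ a b := by rw [← hψc]; group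
      _ = φ₁ (a * (a' * b)) * C (a' * b) * (C (a * b) * ψ a' b) * ψ a b := by rw [conjA, ← hψc]
      _ = φ₁ (a * (a' * b)) * (C (a' * b) * C (a * b)) * (ψ a' b * ψ a b) := by group
      _ = (C (a * b) * C (a' * b)) * φ₁ (a * (a' * b)) * (ψ a' b * ψ a b) := by
          rw [← Subgroup.mem_center_iff.1 (φ₁c _), cC]
      _ = _ := by group
  have ψaddR : ∀ a b b', ψ a (b + b') = φ₂ (b * (a * b')) * (ψ a b * ψ a b') := by
    intro a b b'
    have e : ⁅A a, B (b + b')⁆ = ⁅A a, B b⁆ * (B b * ⁅A a, B b'⁆ * (B b)⁻¹) := by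
      rw [Badd]; simp only [commutatorElement_def]; group
    show (C (a * (b + b')))⁻¹ * ⁅A a, B (b + b')⁆ = _
    rw [e, hD a b', hD a b, inv_mul_eq_iff_eq_mul, mul_add, Cadd]
    calc C (a * b) * ψ a b * (B b * (C (a * b') * ψ a b') * (B b)⁻¹)
        = C (a * b) * (ψ a b * (B b * C (a * b') * (ψ a b' * (B b)⁻¹))) := by group
      _ = C (a * b) * (ψ a b * (B b * C (a * b') * (B b)⁻¹ * ψ a b')) := by rw [← hψc a b']; group
      _ = C (a * b) * (ψ a b * (φ₂ (b * (a * b')) * C (a * b')) * ψ a b') := by rw [conjB]; group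
      _ = C (a * b) * ((φ₂ (b * (a * b')) * C (a * b')) * ψ a b * ψ a b') := by rw [← hψc a b]
      _ = C (a * b) * ((C (a * b') * φ₂ (b * (a * b'))) * ψ a b * ψ a b') := by
          rw [← Subgroup.mem_center_iff.1 (φ₂c _)]
      _ = _ := by group
  have ψinv : ∀ a b, ψ (w * w * a) (w * w * b) = ψ a b := by
    intro a b
    show (C (w * w * a * (w * w * b)))⁻¹ * ⁅A (w * w * a), B (w * w * b)⁆ = _
    rw [← Aeq, ← Beq, show w * w * a * (w * w * b) = w * (a * b) by linear_combination (a * b) * hwu, ← Ceq]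
    calc (t * C (a * b) * t⁻¹)⁻¹ * ⁅t * A a * t⁻¹, t * B b * t⁻¹⁆
        = t * ψ a b * t⁻¹ := by simp only [ψ, commutatorElement_def]; group
      _ = ψ a b := by rw [hψc a b t, mul_inv_cancel_right]
  set p := ψ 1 1 with hp
  set q := ψ 1 w with hq
  set P := Subgroup.closure ({p, q} : Set Δ) with hP
  have pP : p ∈ P := Subgroup.subset_closure (Or.inl rfl)
  have qP : q ∈ P := Subgroup.subset_closure (Or.inr rfl)
  have z0 : ∀ b, ψ 0 b = 1 := fun b => by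
    show (C (0 * b))⁻¹ * ⁅A 0, B b⁆ = 1
    rw [zero_mul, C0', A0']; simp
  have z0' : ∀ a, ψ a 0 = 1 := fun a => by
    show (C (a * 0))⁻¹ * ⁅A a, B 0⁆ = 1
    rw [mul_zero, C0', B0']; simp
  have sq₁ : ∀ a b, φ₁ (a * (a * b)) * (ψ a b * ψ a b) = 1 := fun a b => by
    rw [← ψaddL, CharTwo.add_self_eq_zero, z0]
  have sq₂ : ∀ a b, φ₂ (b * (a * b)) * (ψ a b * ψ a b) = 1 := fun a b => by
    rw [← ψaddR, CharTwo.add_self_eq_zero, z0']
  have φ₂P' : ∀ b, ψ 1 b ∈ P → φ₂ (b * b) ∈ P := fun b hb => by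
    have h := eq_inv_of_mul_eq_one_left (sq₂ 1 b)
    rw [one_mul] at h
    rw [h]; exact inv_mem (mul_mem hb hb)
  have φ₂w : φ₂ w ∈ P := by
    have h := φ₂add (1 * 1) (w * w)
    rw [show (1 : F) * 1 + w * w = w by linear_combination hw + h2] at h
    rw [h]; exact mul_mem (φ₂P' 1 pP) (φ₂P' w qP)
  have ψ1P : ∀ b, ψ 1 b ∈ P := by
    intro b
    rcases hF b with rfl | rfl | rfl | rfl
    · rw [z0']; exact one_mem _
    · exact pP
    · exact qP
    · rw [ψaddR, one_mul, mul_one]; exact mul_mem φ₂w (mul_mem qP pP)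
  have ψP : ∀ a b, ψ a b ∈ P := by
    intro a b
    have hk : ∀ (k : ℕ) a b, ψ ((w * w) ^ k * a) ((w * w) ^ k * b) = ψ a b := by
      intro k
      induction k with
      | zero => simp
      | succ k ih =>
        intro a b
        rw [← ih a b, ← ψinv ((w * w) ^ k * a) ((w * w) ^ k * b)]
        simp only [pow_succ', mul_assoc]
    rcases hpow a with rfl | ⟨k, rfl⟩
    · rw [z0]; exact one_mem _
    · have h := hk k 1 ((w * w) ^ (2 * k) * b)
      rw [mul_one, ← mul_assoc, ← pow_add, show k + 2 * k = k * 3 by ring] at h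
      rw [mul_comm k 3, pow_mul, show (w * w) ^ 3 = 1 by
        grind, one_pow, one_mul] at h
      rw [h]; exact ψ1P _
  have φ₁P : ∀ x, φ₁ x ∈ P := fun x => by
    have h := eq_inv_of_mul_eq_one_left (sq₁ 1 x)
    rw [one_mul, one_mul] at h
    rw [h]; exact inv_mem (mul_mem (ψP _ _) (ψP _ _))
  have φ₂P : ∀ x, φ₂ x ∈ P := fun x => by
    obtain ⟨y, rfl⟩ : ∃ y, x = y * y := ⟨x * x, by
      rcases hpow x with rfl | ⟨k, rfl⟩
      · simp
      · rw [← mul_pow, ← mul_pow]; congr 1; grind⟩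
    exact φ₂P' y (ψP 1 y)
  have four : ∀ a b, ψ a b ^ 4 = 1 := fun a b => by
    have h := eq_inv_of_mul_eq_one_left (sq₁ a b)
    have h' : φ₁ (a * (a * b)) * φ₁ (a * (a * b)) = 1 := by
      rw [← φ₁add, CharTwo.add_self_eq_zero]; show ⁅A 1, C 0⁆ = 1; rw [C0']; simp
    rw [h, ← mul_inv_rev, inv_eq_one] at h'
    rw [← h', show (4 : ℕ) = 2 + 2 from rfl, pow_add, pow_two]
  refine ⟨p, q, hψk _ _, hψk _ _, four _ _, four _ _, fun z hz hz' => ?_⟩
  have hPk : P ≤ σ.ker := (Subgroup.closure_le _).2 (by rintro x (rfl | rfl) <;> exact hψk _ _)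
  let V : Subgroup Δ :=
    { carrier := {x | ∃ c, ∃ k ∈ P, x = C c * k}
      one_mem' := ⟨0, 1, one_mem _, by rw [C0', one_mul]⟩
      mul_mem' := by
        rintro _ _ ⟨c, k, hk, rfl⟩ ⟨c', k', hk', rfl⟩
        refine ⟨c + c', k * k', mul_mem hk hk', ?_⟩
        rw [Cadd, mul_assoc (C c) k, ← mul_assoc k, ← Subgroup.mem_center_iff.1 (hc (hPk hk))]
        group
      inv_mem' := by
        rintro _ ⟨c, k, hk, rfl⟩
        refine ⟨c, k⁻¹, inv_mem hk, ?_⟩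
        rw [mul_inv_rev, ← Subgroup.mem_center_iff.1 (hc (hPk (inv_mem hk)))]
        congr 1
        exact inv_eq_of_mul_eq_one_left (by rw [← Cadd, CharTwo.add_self_eq_zero, C0']) }
  have PV : ∀ k ∈ P, k ∈ V := fun k hk => ⟨0, k, hk, by rw [C0', one_mul]⟩
  have CV : ∀ c, C c ∈ V := fun c => ⟨c, 1, one_mem _, (mul_one _).symm⟩
  let Good : Set Δ := {g | ∀ v ∈ V, g * v * g⁻¹ ∈ V}
  have hgood : ∀ g, (∀ c, g * C c * g⁻¹ ∈ V) → g ∈ Good := by
    rintro g h _ ⟨c, k, hk, rfl⟩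
    rw [show g * (C c * k) * g⁻¹ = g * C c * (k * g⁻¹) by group, ← Subgroup.mem_center_iff.1 (hc (hPk hk)),
      ← mul_assoc]
    exact mul_mem (h c) (PV k hk)
  let gens : Set Δ := {g | (∃ a, g = A a) ∨ (∃ b, g = B b) ∨ (∃ c, g = C c) ∨ g ∈ σ.ker}
  have gens_good : ∀ g ∈ gens, g ∈ Good := by
    rintro g (⟨a, rfl⟩ | ⟨b, rfl⟩ | ⟨c, rfl⟩ | hk) <;> refine hgood _ fun c' => ?_
    · rw [conjA]; exact mul_mem (PV _ (φ₁P _)) (CV _)
    · rw [conjB]; exact mul_mem (PV _ (φ₂P _)) (CV _)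
    · rw [cC, mul_inv_cancel_right]; exact CV _
    · rw [← Subgroup.mem_center_iff.1 (hc hk), mul_inv_cancel_right]; exact CV _
  have gens_comm : ∀ x ∈ gens, ∀ y ∈ gens, ⁅x, y⁆ ∈ V := by
    have hk1 : ∀ k g : Δ, k ∈ σ.ker → ⁅k, g⁆ = 1 ∧ ⁅g, k⁆ = 1 := fun k g hk =>
      ⟨commutatorElement_eq_one_iff_mul_comm.2 (Subgroup.mem_center_iff.1 (hc hk) g).symm,
        commutatorElement_eq_one_iff_mul_comm.2 (Subgroup.mem_center_iff.1 (hc hk) g)⟩
    rintro x (⟨a, rfl⟩ | ⟨b, rfl⟩ | ⟨c, rfl⟩ | hk) y (⟨a', rfl⟩ | ⟨b', rfl⟩ | ⟨c', rfl⟩ | hk')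
    all_goals first
      | (rw [(hk1 _ _ hk).1]; exact one_mem _)
      | (rw [(hk1 _ _ hk').2]; exact one_mem _)
      | skip
    · rw [abA a a' _ _ (hA a) (hA a')]; exact one_mem _
    · rw [hD]; exact mul_mem (CV _) (PV _ (ψP _ _))
    · rw [hφ₁]; exact PV _ (φ₁P _)
    · rw [← commutatorElement_inv, hD]; exact inv_mem (mul_mem (CV _) (PV _ (ψP _ _)))
    · rw [abB b b' _ _ (hB b) (hB b')]; exact one_mem _
    · rw [hφ₂]; exact PV _ (φ₂P _)
    · rw [← commutatorElement_inv, hφ₁]; exact inv_mem (PV _ (φ₁P _))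
    · rw [← commutatorElement_inv, hφ₂]; exact inv_mem (PV _ (φ₂P _))
    · rw [abC c c' _ _ (hC c) (hC c')]; exact one_mem _
  have hgen : ∀ x ∈ (U0 F).comap σ, ∃ g₁ ∈ gens, ∃ g₂ ∈ gens, ∃ g₃ ∈ gens, ∃ g₄ ∈ gens,
      x = g₁ * g₂ * g₃ * g₄ := by
    intro x hx
    obtain ⟨⟨a, b, c⟩, hp'⟩ := hx
    refine ⟨A a, Or.inl ⟨a, rfl⟩, B b, Or.inr (Or.inl ⟨b, rfl⟩), C (c - a * b),
      Or.inr (Or.inr (Or.inl ⟨_, rfl⟩)), (A a * B b * C (c - a * b))⁻¹ * x, Or.inr (Or.inr (Or.inr ?_)),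
      (mul_inv_cancel_left _ _).symm⟩
    rw [MonoidHom.mem_ker, map_mul, map_inv, map_mul, map_mul, hA, hB, hC, ← uni_split, hp', inv_mul_cancel]
  have good_mul : ∀ x ∈ Good, ∀ y ∈ Good, x * y ∈ Good := fun x hx y hy v hv => by
    rw [show x * y * v * (x * y)⁻¹ = x * (y * v * y⁻¹) * x⁻¹ by group]; exact hx _ (hy v hv)
  have right4 : ∀ x ∈ gens, ∀ y ∈ (U0 F).comap σ, ⁅x, y⁆ ∈ V := by
    intro x hx y hy
    obtain ⟨g₁, h₁, g₂, h₂, g₃, h₃, g₄, h₄, rfl⟩ := hgen y hy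
    have step : ∀ u v : Δ, u ∈ Good → ⁅x, u⁆ ∈ V → ⁅x, v⁆ ∈ V → ⁅x, u * v⁆ ∈ V := fun u v hu h h' => by
      rw [show ⁅x, u * v⁆ = ⁅x, u⁆ * (u * ⁅x, v⁆ * u⁻¹) by simp only [commutatorElement_def]; group]
      exact mul_mem h (hu _ h')
    have G1 := gens_good _ h₁
    have G2 := gens_good _ h₂
    have G3 := gens_good _ h₃
    exact step _ _ (good_mul _ (good_mul _ G1 _ G2) _ G3)
      (step _ _ (good_mul _ G1 _ G2) (step _ _ G1 (gens_comm x hx _ h₁) (gens_comm x hx _ h₂))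
        (gens_comm x hx _ h₃)) (gens_comm x hx _ h₄)
  have hle : ⁅(U0 F).comap σ, (U0 F).comap σ⁆ ≤ V := by
    rw [Subgroup.commutator_le]
    intro x hx y hy
    obtain ⟨g₁, h₁, g₂, h₂, g₃, h₃, g₄, h₄, rfl⟩ := hgen x hx
    have step : ∀ u v : Δ, u ∈ Good → ⁅u, y⁆ ∈ V → ⁅v, y⁆ ∈ V → ⁅u * v, y⁆ ∈ V := fun u v hu h h' => by
      rw [show ⁅u * v, y⁆ = u * ⁅v, y⁆ * u⁻¹ * ⁅u, y⁆ by simp only [commutatorElement_def]; group]
      exact mul_mem (hu _ h') h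
    have G1 := gens_good _ h₁
    have G2 := gens_good _ h₂
    have G3 := gens_good _ h₃
    exact step _ _ (good_mul _ (good_mul _ G1 _ G2) _ G3)
      (step _ _ (good_mul _ G1 _ G2) (step _ _ G1 (right4 _ h₁ y hy) (right4 _ h₂ y hy))
        (right4 _ h₃ y hy)) (right4 _ h₄ y hy)
  obtain ⟨c, k, hk, rfl⟩ := hle hz'
  rw [MonoidHom.mem_ker, map_mul, hC, MonoidHom.mem_ker.1 (hPk hk), mul_one] at hz
  have hc0 : ((0 : F), (0 : F), c) = (0, 0, 0) := uni_inj (hz.trans (by rw [uni_zero, map_one]))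
  simp only [Prod.mk.injEq, true_and] at hc0
  rw [hc0, C0', one_mul]
  exact hk

end Cfsg.Agent.Lib.PSLThreeFourMult
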